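import Groth.Agent.FBase.TensorAlgClosed
import Mathlib.AlgebraicGeometry.Geometrically.Integral
import Mathlib.AlgebraicGeometry.Geometrically.Connected
import Mathlib.AlgebraicGeometry.Morphisms.Integral

/-!
Change of the base field for schemes.
-/

universe u

open CategoryTheory Limits AlgebraicGeometry TensorProduct
open Groth.Agent.FBase.TensorAlgClosed

namespace Groth.Agent.FBase.BC

variable {k : Type u} [Field k]

/-- `Spec` of a ring map of fields. -/
noncomputable abbrev specMap (k K : Type u) [Field k] [Field K] [Algebra k K] :
    Spec (CommRingCat.of K) ⟶ Spec (CommRingCat.of k) :=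
  Spec.map (CommRingCat.ofHom (algebraMap k K))

variable {K : Type u} [Field K] [Algebra k K]

lemma geometrically_specMap {P : Scheme.{u} → Prop} {A : Type u} [CommRing A] [Algebra k A]
    [hP : ObjectProperty.IsClosedUnderIsomorphisms P]
    (h : ∀ (L : Type u) [Field L] [Algebra k L], P (Spec (CommRingCat.of (A ⊗[k] L)))) :
    geometrically P (Spec.map (CommRingCat.ofHom (algebraMap k A))) := by
  rw [geometrically_iff_of_commRing_of_isClosedUnderIsomorphisms]
  intro L _ _
  exact ObjectProperty.prop_of_iso P (pullbackSpecIso k A L).symm (h L)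

instance : ObjectProperty.IsClosedUnderIsomorphisms (fun X : Scheme.{u} ↦ IrreducibleSpace X) where
  of_iso e h := e.hom.homeomorph.irreducibleSpace_iff.mp h

instance : ObjectProperty.IsClosedUnderIsomorphisms (fun X : Scheme.{u} ↦ ConnectedSpace X) where
  of_iso e h := e.hom.homeomorph.connectedSpace_iff.mp h

instance : ObjectProperty.IsClosedUnderIsomorphisms
    (IsReduced : Scheme.{u} → Prop) where
  of_iso e _ := isReduced_of_isOpenImmersion e.inv

lemma geometricallyIrreducible_specMap_of_isSepClosed [IsSepClosed k] :
    GeometricallyIrreducible (specMap k K) := by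
  refine ⟨geometrically_specMap fun L _ _ ↦ ?_⟩
  have : (nilradical K).IsPrime := by rw [nilradical_eq_zero]; exact Ideal.isPrime_bot
  exact PrimeSpectrum.irreducibleSpace_iff_isPrime_nilradical.mpr
    (isPrime_nilradical_tensor_of_isSepClosed (k := k) (A := K) (K := L))

lemma geometricallyConnected_of_geometricallyIrreducible {X Y : Scheme.{u}} (f : X ⟶ Y)
    [GeometricallyIrreducible f] : GeometricallyConnected f :=
  ⟨fun _ _ y _ fst snd h ↦
    have := GeometricallyIrreducible.geometrically_irreducibleSpace y fst snd h
    inferInstance⟩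

lemma geometricallyConnected_specMap_of_isSepClosed [IsSepClosed k] :
    GeometricallyConnected (specMap k K) :=
  have := geometricallyIrreducible_specMap_of_isSepClosed (k := k) (K := K)
  geometricallyConnected_of_geometricallyIrreducible _

lemma geometricallyReduced_specMap_algebra (A : Type u) [CommRing A] [Algebra k A]
    [Algebra.IsGeometricallyReduced k A] :
    GeometricallyReduced (Spec.map (CommRingCat.ofHom (algebraMap k A))) := by
  refine ⟨geometrically_specMap fun L _ _ ↦ ?_⟩
  have : _root_.IsReduced (L ⊗[k] A) := isReduced_tensor_of_isGeometricallyReduced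
  have : _root_.IsReduced (A ⊗[k] L) :=
    isReduced_of_injective _ (Algebra.TensorProduct.comm k A L).injective
  exact (affine_isReduced_iff _).mpr this

lemma isGeometricallyReduced_of_geometricallyReduced_specMap (A : Type u) [CommRing A] [Algebra k A]
    [GeometricallyReduced (Spec.map (CommRingCat.ofHom (algebraMap k A)))] :
    Algebra.IsGeometricallyReduced k A := by
  rw [Algebra.isGeometricallyReduced_field_iff]
  have : IsReduced (pullback (Spec.map (CommRingCat.ofHom (algebraMap k A)))
      (specMap k (AlgebraicClosure k))) :=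
    pullback_of_geometrically GeometricallyReduced.geometrically_isReduced _ _
  have : IsReduced (Spec (CommRingCat.of (A ⊗[k] AlgebraicClosure k))) :=
    isReduced_of_isOpenImmersion (pullbackSpecIso k A (AlgebraicClosure k)).inv
  have : _root_.IsReduced (A ⊗[k] AlgebraicClosure k) := (affine_isReduced_iff _).mp this
  exact isReduced_of_injective _
    (Algebra.TensorProduct.comm k (AlgebraicClosure k) A).injective

/-- The affine-local criterion for geometric reducedness of a scheme over a field. -/
lemma geometricallyReduced_of_affineCover {X : Scheme.{u}} (f : X ⟶ Spec (CommRingCat.of k))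
    (h : ∀ i, GeometricallyReduced (X.affineCover.f i ≫ f)) : GeometricallyReduced f := by
  refine ⟨geometrically_iff_of_isClosedUnderIsomorphisms.mpr fun L _ y ↦ ?_⟩
  exact @IsReduced.of_openCover _ (Scheme.Pullback.openCoverOfLeft X.affineCover f y)
    fun i ↦ pullback_of_geometrically (h i).geometrically_isReduced _ _

lemma geometricallyReduced_comp_openImmersion {U X S : Scheme.{u}} (j : U ⟶ X) (f : X ⟶ S)
    [IsOpenImmersion j] [GeometricallyReduced f] : GeometricallyReduced (j ≫ f) := by
  refine ⟨geometrically_iff_of_isClosedUnderIsomorphisms.mpr fun L _ y ↦ ?_⟩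
  have : IsReduced (pullback f y) :=
    pullback_of_geometrically GeometricallyReduced.geometrically_isReduced _ _
  exact isReduced_of_isOpenImmersion (pullback.map (j ≫ f) y f y j (𝟙 _) (𝟙 _)
    (Category.comp_id _) (by simp))

lemma isReduced_pullback_affine {A B : CommRingCat.{u}} (φ : CommRingCat.of k ⟶ A)
    (ψ : CommRingCat.of k ⟶ B) [GeometricallyReduced (Spec.map φ)] [IsReduced (Spec B)] :
    IsReduced (pullback (Spec.map φ) (Spec.map ψ)) := by
  obtain ⟨φ⟩ := φ
  obtain ⟨ψ⟩ := ψ
  let := φ.toAlgebra
  let := ψ.toAlgebra
  have : Algebra.IsGeometricallyReduced k A :=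
    @isGeometricallyReduced_of_geometricallyReduced_specMap k _ A _ _ ‹_›
  have : _root_.IsReduced B := (affine_isReduced_iff _).mp ‹_›
  have : _root_.IsReduced (B ⊗[k] A) := isReduced_tensor_of_isReduced_of_isGeometricallyReduced
  have : _root_.IsReduced (A ⊗[k] B) :=
    isReduced_of_injective _ (Algebra.TensorProduct.comm k A B).injective
  have : IsReduced (Spec (CommRingCat.of (A ⊗[k] B))) := (affine_isReduced_iff _).mpr this
  exact isReduced_of_isOpenImmersion (pullbackSpecIso k A B).hom

lemma isReduced_pullback_aux {X S : Scheme.{u}} {A B : CommRingCat.{u}}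
    (f : X ⟶ Spec (CommRingCat.of k)) (g : S ⟶ Spec (CommRingCat.of k)) [GeometricallyReduced f]
    [IsReduced S] (a : Spec A ⟶ X) (b : Spec B ⟶ S) [IsOpenImmersion a] [IsOpenImmersion b] :
    IsReduced (pullback (a ≫ f) (b ≫ g)) := by
  obtain ⟨φ, hφ⟩ := Spec.map_surjective (a ≫ f)
  obtain ⟨ψ, hψ⟩ := Spec.map_surjective (b ≫ g)
  have : GeometricallyReduced (Spec.map φ) :=
    hφ ▸ geometricallyReduced_comp_openImmersion _ _
  have : IsReduced (Spec B) := isReduced_of_isOpenImmersion b
  rw [← hφ, ← hψ]
  exact isReduced_pullback_affine φ ψ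

/-- Over a field, geometrically reduced times reduced is reduced. -/
lemma isReduced_pullback {X S : Scheme.{u}}
    (f : X ⟶ Spec (CommRingCat.of k)) (g : S ⟶ Spec (CommRingCat.of k)) [GeometricallyReduced f]
    [IsReduced S] : IsReduced (pullback f g) := by
  refine @IsReduced.of_openCover _
    (Scheme.Pullback.openCoverOfLeftRight X.affineCover S.affineCover f g) fun ⟨i, j⟩ ↦ ?_
  exact @isReduced_pullback_aux _ _ _ _ _ _ f g _ _ _ _ (X.affineCover.map_prop i)
    (S.affineCover.map_prop j)

lemma geometricallyReduced_specMap_of_perfectField [PerfectField k] {A : CommRingCat.{u}}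
    (φ : CommRingCat.of k ⟶ A) [IsReduced (Spec A)] : GeometricallyReduced (Spec.map φ) := by
  obtain ⟨φ⟩ := φ
  let := φ.toAlgebra
  have : _root_.IsReduced A := (affine_isReduced_iff _).mp ‹_›
  have : Algebra.IsGeometricallyReduced k A := isGeometricallyReduced_of_perfectField
  exact geometricallyReduced_specMap_algebra (k := k) A

lemma geometricallyReduced_comp_of_perfectField [PerfectField k] {X : Scheme.{u}}
    {A : CommRingCat.{u}} (f : X ⟶ Spec (CommRingCat.of k)) (a : Spec A ⟶ X) [IsOpenImmersion a]
    [IsReduced X] : GeometricallyReduced (a ≫ f) := by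
  obtain ⟨φ, hφ⟩ := Spec.map_surjective (a ≫ f)
  have : IsReduced (Spec A) := isReduced_of_isOpenImmersion a
  rw [← hφ]
  exact geometricallyReduced_specMap_of_perfectField φ

lemma geometricallyReduced_of_isReduced_of_perfectField [PerfectField k] {X : Scheme.{u}}
    (f : X ⟶ Spec (CommRingCat.of k)) [IsReduced X] : GeometricallyReduced f := by
  refine geometricallyReduced_of_affineCover f fun i ↦ ?_
  exact @geometricallyReduced_comp_of_perfectField _ _ _ _ _ f _ (X.affineCover.map_prop i) _

/-! ### Descent along extensions of the base field -/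

lemma surjective_specMap : Surjective (specMap k K) :=
  ⟨fun x ↦ ⟨default, Subsingleton.elim (α := PrimeSpectrum k) _ x⟩⟩

instance : Flat (specMap k K) := by
  rw [HasRingHomProperty.Spec_iff (P := @Flat)]
  exact RingHom.flat_algebraMap_iff.mpr inferInstance

instance : IsSchemeTheoreticallyDominant (specMap k K) :=
  have := surjective_specMap (k := k) (K := K)
  .of_isDominant _

/-- Reducedness descends along an extension of the base field. -/
lemma isReduced_of_isReduced_pullback_specMap {X : Scheme.{u}} (f : X ⟶ Spec (CommRingCat.of k))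
    [IsReduced (pullback f (specMap k K))] : IsReduced X :=
  IsSchemeTheoreticallyDominant.isReduced (pullback.fst f (specMap k K))

/-- Two extensions of a field are contained in a common one. -/
lemma exists_compositum (k K L : Type u) [Field k] [Field K] [Field L] [Algebra k K] [Algebra k L] :
    ∃ (M : Type u) (_ : Field M) (φ : K →+* M) (ψ : L →+* M),
      φ.comp (algebraMap k K) = ψ.comp (algebraMap k L) := by
  have : Nontrivial (K ⊗[k] L) :=
    Algebra.TensorProduct.includeLeft_injective (R := k) (S := k) (A := K) (B := L)
      (RingHom.injective _) |>.nontrivial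
  obtain ⟨m, hm⟩ := Ideal.exists_maximal (K ⊗[k] L)
  refine ⟨(K ⊗[k] L) ⧸ m, Ideal.Quotient.field m,
    (Ideal.Quotient.mk m).comp Algebra.TensorProduct.includeLeftRingHom,
    (Ideal.Quotient.mk m).comp Algebra.TensorProduct.includeRight.toRingHom, ?_⟩
  ext x
  simp [Algebra.TensorProduct.algebraMap_apply]

/-- A geometric property can be checked after a field extension of the base, if it descends along
field extensions. -/
lemma geometrically_of_pullback_snd {P : Scheme.{u} → Prop}
    [ObjectProperty.IsClosedUnderIsomorphisms P]
    (hP : ∀ (k K : Type u) [Field k] [Field K] [Algebra k K] (X : Scheme.{u})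
      (f : X ⟶ Spec (CommRingCat.of k)), P (pullback f (specMap k K)) → P X)
    {X : Scheme.{u}} {f : X ⟶ Spec (CommRingCat.of k)}
    (h : geometrically P (pullback.snd f (specMap k K))) : geometrically P f := by
  rw [geometrically_iff_of_commRing_of_isClosedUnderIsomorphisms]
  intro L _ _
  obtain ⟨M, _, φ, ψ, hφψ⟩ := exists_compositum k K L
  let := φ.toAlgebra
  let := ψ.toAlgebra
  refine hP L M _ (pullback.snd f (specMap k L)) ?_
  have h' := pullback_of_geometrically h M (specMap K M)
  refine ObjectProperty.prop_of_iso P ?_ h'
  refine pullbackLeftPullbackSndIso f (specMap k K) (specMap K M) ≪≫ ?_ ≪≫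
    (pullbackLeftPullbackSndIso f (specMap k L) (specMap L M)).symm
  refine pullback.congrHom rfl ?_
  simp only [specMap, ← Spec.map_comp, ← CommRingCat.ofHom_comp]
  congr 2

lemma surjective_pullback_fst {X : Scheme.{u}} (f : X ⟶ Spec (CommRingCat.of k)) :
    Surjective (pullback.fst f (specMap k K)) :=
  have := surjective_specMap (k := k) (K := K)
  inferInstance

lemma connectedSpace_of_surjective {X Y : Scheme.{u}} (g : Y ⟶ X) [Surjective g]
    [ConnectedSpace Y] : ConnectedSpace X :=
  g.surjective.connectedSpace g.continuous

lemma irreducibleSpace_of_surjective {X Y : Scheme.{u}} (g : Y ⟶ X) [Surjective g]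
    [IrreducibleSpace Y] : IrreducibleSpace X := by
  rw [irreducibleSpace_def, Set.top_eq_univ, ← g.surjective.range_eq, ← Set.image_univ]
  exact (IrreducibleSpace.isIrreducible_univ Y).image _ g.continuous.continuousOn

variable {X : Scheme.{u}} (f : X ⟶ Spec (CommRingCat.of k))

lemma geometricallyConnected_iff :
    GeometricallyConnected f ↔ GeometricallyConnected (pullback.snd f (specMap k K)) := by
  refine ⟨fun _ ↦ inferInstance, fun h ↦ ⟨geometrically_of_pullback_snd ?_ h.1⟩⟩
  intro k K _ _ _ X f _
  have := surjective_pullback_fst (K := K) f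
  exact connectedSpace_of_surjective (pullback.fst f (specMap k K))

lemma geometricallyIrreducible_iff :
    GeometricallyIrreducible f ↔ GeometricallyIrreducible (pullback.snd f (specMap k K)) := by
  refine ⟨fun _ ↦ inferInstance, fun h ↦ ⟨geometrically_of_pullback_snd ?_ h.1⟩⟩
  intro k K _ _ _ X f _
  have := surjective_pullback_fst (K := K) f
  exact irreducibleSpace_of_surjective (pullback.fst f (specMap k K))

lemma geometricallyReduced_iff :
    GeometricallyReduced f ↔ GeometricallyReduced (pullback.snd f (specMap k K)) := by
  refine ⟨fun _ ↦ inferInstance, fun h ↦ ⟨geometrically_of_pullback_snd ?_ h.1⟩⟩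
  intro k K _ _ _ X f _
  exact isReduced_of_isReduced_pullback_specMap (K := K) f

/-- Base change of the base field preserves connectedness if the base is separably closed. -/
lemma geometricallyConnected_of_isSepClosed [IsSepClosed k] [ConnectedSpace X] :
    GeometricallyConnected f := by
  refine ⟨geometrically_iff_of_commRing_of_isClosedUnderIsomorphisms.mpr fun L _ _ ↦ ?_⟩
  have := geometricallyConnected_specMap_of_isSepClosed (k := k) (K := L)
  exact inferInstanceAs (ConnectedSpace ↥(pullback f (specMap k L)))

lemma geometricallyIrreducible_of_isSepClosed [IsSepClosed k] [IrreducibleSpace X] :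
    GeometricallyIrreducible f := by
  refine ⟨geometrically_iff_of_commRing_of_isClosedUnderIsomorphisms.mpr fun L _ _ ↦ ?_⟩
  have := geometricallyIrreducible_specMap_of_isSepClosed (k := k) (K := L)
  exact inferInstanceAs (IrreducibleSpace ↥(pullback f (specMap k L)))

end Groth.Agent.FBase.BC
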