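import Groth.Agent.FBase.BC

/-!
More on the change of the base field: comparing different extensions, connectedness.
-/

universe u

open CategoryTheory Limits AlgebraicGeometry
open Groth.Agent.FBase.BC

namespace Groth.Agent.FBase.BC2

variable {k : Type u} [Field k] {X : Scheme.{u}} (f : X ⟶ Spec (CommRingCat.of k))

instance isIntegralHom_specMap {K : Type u} [Field K] [Algebra k K] [Algebra.IsAlgebraic k K] :
    IsIntegralHom (specMap k K) := by
  rw [IsIntegralHom.SpecMap_iff]
  exact algebraMap_isIntegral_iff.mpr inferInstance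

section Tower

variable {K L : Type u} [Field K] [Field L] [Algebra k K] [Algebra k L] [Algebra K L]
  [IsScalarTower k K L]

lemma specMap_comp : specMap K L ≫ specMap k K = specMap k L := by
  simp only [specMap, ← Spec.map_comp, ← CommRingCat.ofHom_comp, ← IsScalarTower.algebraMap_eq]

/-- `X ⊗ L → X ⊗ K` for a tower `k → K → L`. -/
noncomputable def bcMap : pullback f (specMap k L) ⟶ pullback f (specMap k K) :=
  pullback.map _ _ _ _ (𝟙 X) (specMap K L) (𝟙 _) (by simp) (by simp [specMap_comp])

lemma bcMap_fst : bcMap f (K := K) (L := L) ≫ pullback.fst f (specMap k K) = pullback.fst _ _ := by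
  unfold bcMap pullback.map
  rw [pullback.lift_fst, Category.comp_id]

lemma bcMap_snd :
    bcMap f (K := K) (L := L) ≫ pullback.snd f (specMap k K) = pullback.snd _ _ ≫ specMap K L := by
  unfold bcMap pullback.map
  rw [pullback.lift_snd]

lemma isPullback_bcMap :
    IsPullback (bcMap f (K := K) (L := L)) (pullback.snd f (specMap k L))
      (pullback.snd f (specMap k K)) (specMap K L) := by
  refine IsPullback.of_right (h₁₂ := pullback.fst f (specMap k K)) ?_ (bcMap_snd f)
    (IsPullback.of_hasPullback f (specMap k K))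
  rw [bcMap_fst, specMap_comp]
  exact IsPullback.of_hasPullback f (specMap k L)

lemma surjective_bcMap : Surjective (bcMap f (K := K) (L := L)) :=
  MorphismProperty.of_isPullback (P := @Surjective) (isPullback_bcMap f).flip
    (surjective_specMap (k := K) (K := L))

lemma universallyOpen_bcMap : UniversallyOpen (bcMap f (K := K) (L := L)) :=
  MorphismProperty.of_isPullback (P := @UniversallyOpen) (isPullback_bcMap f).flip inferInstance

lemma geometricallyConnected_bcMap [IsSepClosed K] :
    GeometricallyConnected (bcMap f (K := K) (L := L)) :=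
  MorphismProperty.of_isPullback (P := @GeometricallyConnected) (isPullback_bcMap f).flip
    geometricallyConnected_specMap_of_isSepClosed

lemma geometricallyIrreducible_bcMap [IsSepClosed K] :
    GeometricallyIrreducible (bcMap f (K := K) (L := L)) :=
  MorphismProperty.of_isPullback (P := @GeometricallyIrreducible) (isPullback_bcMap f).flip
    geometricallyIrreducible_specMap_of_isSepClosed

lemma isIntegralHom_bcMap [Algebra.IsAlgebraic K L] :
    IsIntegralHom (bcMap f (K := K) (L := L)) :=
  MorphismProperty.of_isPullback (P := @IsIntegralHom) (isPullback_bcMap f).flip inferInstance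

end Tower

/-- Preimages of connected sets under an open map with geometrically connected fibres. -/
lemma isConnected_preimage {X Y : Scheme.{u}} (p : X ⟶ Y) [GeometricallyConnected p]
    (hp : IsOpenMap p) {Z : Set Y} (hZ : _root_.IsConnected Z) : _root_.IsConnected (p ⁻¹' Z) := by
  rw [isConnected_iff_connectedSpace] at hZ ⊢
  have hq : Topology.IsQuotientMap (Z.restrictPreimage p) :=
    (hp.restrictPreimage Z).isQuotientMap (p.continuous.restrictPreimage)
      (Z.restrictPreimage_surjective p.surjective)
  rw [connectedSpace_iff_univ, ← Set.preimage_univ (f := Z.restrictPreimage p)]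
  refine Topology.IsCoinducing.isConnected_preimage_of_isClosed (fun z ↦ ?_) hq.isCoinducing
    isClosed_univ isConnected_univ
  have h := Scheme.Hom.isConnected_preimage_singleton (f := p) z.1
  have e : (Subtype.val : p ⁻¹' Z → X) '' (Z.restrictPreimage p ⁻¹' {z}) = p ⁻¹' {z.1} := by
    ext x
    simp only [Set.mem_image, Set.mem_preimage, Set.mem_singleton_iff, Subtype.exists,
      exists_and_right, exists_eq_right]
    refine ⟨fun ⟨_, hx⟩ ↦ congrArg Subtype.val hx, fun hx ↦ ⟨hx ▸ z.2, Subtype.ext hx⟩⟩
  rw [← e] at h
  exact ⟨h.1.of_image, Topology.IsInducing.subtypeVal.isPreconnected_image.mp h.2⟩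

/-- If `p` is open and closed, `C` is connected and a connected subset of `p ⁻¹' C` contains a fibre
over a point of `C`, then `p ⁻¹' C` is connected. -/
lemma isConnected_preimage_of_fiber_subset {α β : Type*} [TopologicalSpace α] [TopologicalSpace β]
    {p : α → β} (ho : IsOpenMap p) (hc : IsClosedMap p) (hs : Function.Surjective p) {C : Set β}
    (hC : _root_.IsConnected C) {x : β} (hx : x ∈ C) {D : Set α} (hD : IsPreconnected D)
    (hxD : p ⁻¹' {x} ⊆ D) (hDC : D ⊆ p ⁻¹' C) : _root_.IsConnected (p ⁻¹' C) := by
  obtain ⟨a, ha⟩ := hs x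
  refine ⟨⟨a, show p a ∈ C by rwa [ha]⟩, ?_⟩
  rw [isPreconnected_iff_preconnectedSpace, preconnectedSpace_iff_clopen]
  intro U hU
  by_contra! hne
  have : PreconnectedSpace C := Subtype.preconnectedSpace hC.isPreconnected
  have key : ∀ V : Set (p ⁻¹' C), IsClopen V → V.Nonempty →
      ∃ d : p ⁻¹' C, d.1 ∈ D ∧ d ∈ V := by
    intro V hV hVne
    have him : IsClopen (C.restrictPreimage p '' V) :=
      ⟨(hc.restrictPreimage C) _ hV.1, (ho.restrictPreimage C) _ hV.2⟩
    obtain ⟨d, hdV, hd⟩ : ⟨x, hx⟩ ∈ C.restrictPreimage p '' V := by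
      rw [him.eq_univ (hVne.image _)]
      exact Set.mem_univ _
    exact ⟨d, hxD (congrArg Subtype.val hd), hdV⟩
  obtain ⟨d₁, h₁D, h₁⟩ := key U hU hne.1
  obtain ⟨d₂, h₂D, h₂⟩ := key Uᶜ hU.compl (Set.nonempty_compl.mpr hne.2)
  have hD' : IsPreconnected (Subtype.val ⁻¹' D : Set (p ⁻¹' C)) := by
    rw [← Topology.IsInducing.subtypeVal.isPreconnected_image, Subtype.image_preimage_coe,
      Set.inter_eq_right.mpr hDC]
    exact hD
  exact h₂ (hD'.subset_isClopen hU ⟨d₁, h₁D, h₁⟩ h₂D)

/-- The range of a map of schemes over `k` after extending the base field. -/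
lemma preimage_range_subset_range_map {Y : Scheme.{u}} (g : Y ⟶ Spec (CommRingCat.of k)) (h : Y ⟶ X)
    (w : h ≫ f = g) {K : Type u} [Field K] [Algebra k K] :
    pullback.fst f (specMap k K) ⁻¹' Set.range h ⊆
      Set.range (pullback.map g (specMap k K) f (specMap k K) h (𝟙 _) (𝟙 _) (by simp [w]) (by simp)) := by
  intro z hz
  rw [Scheme.Pullback.range_map]
  exact ⟨hz, pullback.snd f (specMap k K) z, by simp⟩

/-- If a nonempty subset of the connected set `C` has connected preimage over the algebraic
closure, then the preimage of `C` in every `X ⊗ K` is connected. -/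
lemma isConnected_preimage_fst_of_set {S C : Set X} (hC : _root_.IsConnected C) (hSC : S ⊆ C)
    (hne : S.Nonempty)
    (hS : _root_.IsPreconnected (pullback.fst f (specMap k (AlgebraicClosure k)) ⁻¹' S))
    {K : Type u} [Field K] [Algebra k K] :
    _root_.IsConnected (pullback.fst f (specMap k K) ⁻¹' C) := by
  let i : AlgebraicClosure k →ₐ[k] AlgebraicClosure K := IsAlgClosed.lift
  algebraize [i.toRingHom]
  have : IsScalarTower k (AlgebraicClosure k) (AlgebraicClosure K) :=
    IsScalarTower.of_algHom i
  let p₀ := pullback.fst f (specMap k (AlgebraicClosure k))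
  obtain ⟨y, hy⟩ := hne
  have := surjective_pullback_fst (K := AlgebraicClosure k) f
  have h₀ : _root_.IsConnected (p₀ ⁻¹' C) :=
    isConnected_preimage_of_fiber_subset p₀.isOpenMap p₀.isClosedMap p₀.surjective hC
      (hSC hy) hS (Set.preimage_mono (Set.singleton_subset_iff.mpr hy)) (Set.preimage_mono hSC)
  let q := bcMap f (K := AlgebraicClosure k) (L := AlgebraicClosure K)
  have := geometricallyConnected_bcMap f (K := AlgebraicClosure k) (L := AlgebraicClosure K)
  have := universallyOpen_bcMap f (K := AlgebraicClosure k) (L := AlgebraicClosure K)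
  have h₁ := isConnected_preimage q q.isOpenMap h₀
  let r := bcMap f (K := K) (L := AlgebraicClosure K)
  have hr := (surjective_bcMap f (K := K) (L := AlgebraicClosure K)).surj
  have e : q ⁻¹' (p₀ ⁻¹' C) = r ⁻¹' (pullback.fst f (specMap k K) ⁻¹' C) := by
    ext z
    simp only [Set.mem_preimage, q, p₀, r, ← Scheme.Hom.comp_apply, bcMap_fst]
  rw [e] at h₁
  have := h₁.image r r.continuous.continuousOn
  rwa [Set.image_preimage_eq _ hr] at this

/-- If `h : Y → X` and `Y` is geometrically connected, the preimage in `X ⊗ K` of a connected set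
containing the image of `Y` is connected. -/
lemma isConnected_preimage_fst {Y : Scheme.{u}} (g : Y ⟶ Spec (CommRingCat.of k)) (h : Y ⟶ X)
    (w : h ≫ f = g) [GeometricallyConnected g] {C : Set X} (hC : _root_.IsConnected C)
    (hYC : Set.range h ⊆ C) {K : Type u} [Field K] [Algebra k K] :
    _root_.IsConnected (pullback.fst f (specMap k K) ⁻¹' C) := by
  have : ConnectedSpace ↥(pullback g (specMap k (AlgebraicClosure k))) :=
    pullback_of_geometrically GeometricallyConnected.geometrically_connectedSpace _ _
  let hY := pullback.map g (specMap k (AlgebraicClosure k)) f (specMap k (AlgebraicClosure k)) h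
    (𝟙 _) (𝟙 _) (by simp [w]) (by simp)
  obtain ⟨y⟩ : Nonempty Y :=
    ⟨pullback.fst g (specMap k (AlgebraicClosure k)) (Classical.arbitrary _)⟩
  refine isConnected_preimage_fst_of_set f hC hYC ⟨h y, y, rfl⟩ ?_
  have e : pullback.fst f (specMap k (AlgebraicClosure k)) ⁻¹' Set.range h = Set.range hY := by
    refine subset_antisymm (preimage_range_subset_range_map f g h w) ?_
    rintro _ ⟨z, rfl⟩
    refine ⟨pullback.fst g (specMap k (AlgebraicClosure k)) z, ?_⟩
    have e : hY ≫ pullback.fst f (specMap k (AlgebraicClosure k)) =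
        pullback.fst g (specMap k (AlgebraicClosure k)) ≫ h :=
      pullback.lift_fst _ _ _
    rw [← Scheme.Hom.comp_apply, ← Scheme.Hom.comp_apply, e]
  rw [e]
  exact isPreconnected_range hY.continuous

/-- Lift a field-valued point along a surjective morphism, after extending the field. -/
lemma exists_lift_field {Y Y' : Scheme.{u}} (g : Y' ⟶ Y) [Surjective g] {K : Type u} [Field K]
    (y : Spec (CommRingCat.of K) ⟶ Y) :
    ∃ (M : Type u) (_ : Field M) (ψ : K →+* M) (y' : Spec (CommRingCat.of M) ⟶ Y'),
      y' ≫ g = Spec.map (CommRingCat.ofHom ψ) ≫ y := by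
  obtain ⟨z⟩ : Nonempty ↥(pullback g y) :=
    ⟨((pullback.snd g y).surjective default).choose⟩
  obtain ⟨ψ, hψ⟩ := Spec.map_surjective ((pullback g y).fromSpecResidueField z ≫ pullback.snd g y)
  refine ⟨(pullback g y).residueField z, inferInstance, ψ.hom,
    (pullback g y).fromSpecResidueField z ≫ pullback.fst g y, ?_⟩
  simp only [CommRingCat.ofHom_hom, hψ, Category.assoc]
  erw [pullback.condition]

end Groth.Agent.FBase.BC2
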