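import Groth.Agent.FBase.Components

/-!
Connected components of base changes of a scheme over a field.
-/

universe u

open CategoryTheory Limits AlgebraicGeometry TensorProduct
open Groth.Agent.FBase.BC Groth.Agent.FBase.BC2 Groth.Agent.FBase.PointScheme
open Groth.Agent.FBase.SepClosed Groth.Agent.FBase.Components Groth.Agent.FBase.Topo

namespace Groth.Agent.FBase.ConnComp

variable {k : Type u} [Field k] {X : Scheme.{u}} (f : X ⟶ Spec (CommRingCat.of k))

lemma geometricallyIrreducible_specMap {κ : Type u} [Field κ] [Algebra k κ]
    (h : separableClosure k κ = ⊥) : GeometricallyIrreducible (specMap k κ) :=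
  ⟨geometrically_specMap fun L _ _ ↦
    PrimeSpectrum.irreducibleSpace_iff_isPrime_nilradical.mpr (isPrime_nilradical_tensor h L)⟩

/-- A point whose residue field has finite separable closure of `k` has finite fibre in algebraic
base changes splitting it, with as many points as the degree. -/
lemma finite_fibre {κ : Type u} [Field κ] [Algebra k κ] (ι : Spec (CommRingCat.of κ) ⟶ X)
    [IsPreimmersion ι] (hι : ι ≫ f = Spec.map (CommRingCat.ofHom (algebraMap k κ)))
    [FiniteDimensional k (separableClosure k κ)] (K : Type u) [Field K] [Algebra k K]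
    [Algebra.IsAlgebraic k K]
    (hsplit : ∀ a : separableClosure k κ, ((minpoly k a).map (algebraMap k K)).Splits) :
    (pullback.fst f (specMap k K) ⁻¹' Set.range ι).Finite ∧
      Nat.card ↥(pullback.fst f (specMap k K) ⁻¹' Set.range ι) =
        Module.finrank k (separableClosure k κ) := by
  obtain ⟨e⟩ := nonempty_fibre_equiv f ι hι K hsplit
  refine ⟨?_, ?_⟩
  · have : Finite (separableClosure k κ →ₐ[k] K) := Finite.of_fintype _
    have := Finite.of_equiv _ e.symm
    exact Set.toFinite _
  · rw [Nat.card_congr e, AlgHom.natCard_of_splits k _ K hsplit]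

/-- `X ⊗ Ω → X ⊗ L` is bijective on components when `L` is separably closed. -/
lemma connectedComponentsMap_bcMap_bijective {L Ω : Type u} [Field L] [Field Ω] [Algebra k L]
    [Algebra k Ω] [Algebra L Ω] [IsScalarTower k L Ω] [IsSepClosed L] :
    Function.Bijective (bcMap f (K := L) (L := Ω)).continuous.connectedComponentsMap := by
  have := geometricallyConnected_bcMap f (K := L) (L := Ω)
  have := universallyOpen_bcMap f (K := L) (L := Ω)
  exact connectedComponentsMap_bijective _ (bcMap f (K := L) (L := Ω)).isOpenMap
    (surjective_bcMap f (K := L) (L := Ω)).surj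
    fun y ↦ Scheme.Hom.isConnected_preimage_singleton (f := bcMap f (K := L) (L := Ω)) y

lemma isPreirreducible_preimage_singleton {Y Z : Scheme.{u}} (g : Y ⟶ Z)
    [GeometricallyIrreducible g] (z : Z) : IsPreirreducible (g ⁻¹' {z}) := by
  have : IrreducibleSpace (g.fiber z) :=
    pullback_of_geometrically GeometricallyIrreducible.geometrically_irreducibleSpace _ _
  rw [← g.range_fiberι z, ← Set.image_univ]
  exact (IrreducibleSpace.isIrreducible_univ (g.fiber z)).isPreirreducible.image _
    (g.fiberι z).continuous.continuousOn

/-- `X ⊗ Ω → X ⊗ L` is bijective on irreducible components when `L` is separably closed. -/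
noncomputable def irreducibleComponentsEquivBC {L Ω : Type u} [Field L] [Field Ω] [Algebra k L]
    [Algebra k Ω] [Algebra L Ω] [IsScalarTower k L Ω] [IsSepClosed L] :
    irreducibleComponents ↥(pullback f (specMap k L)) ≃o
      irreducibleComponents ↥(pullback f (specMap k Ω)) :=
  haveI := geometricallyIrreducible_bcMap f (K := L) (L := Ω)
  haveI := universallyOpen_bcMap f (K := L) (L := Ω)
  irreducibleComponentsEquivOfIsPreirreducibleFiber (bcMap f (K := L) (L := Ω))
    (bcMap f (K := L) (L := Ω)).continuous (bcMap f (K := L) (L := Ω)).isOpenMap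
    (isPreirreducible_preimage_singleton _) (surjective_bcMap f (K := L) (L := Ω)).surj

/-- Two field extensions are contained in an algebraically closed one. -/
lemma exists_isAlgClosed_compositum (K L : Type u) [Field K] [Field L] [Algebra k K] [Algebra k L] :
    ∃ (M : Type u) (_ : Field M) (_ : Algebra k M) (_ : Algebra K M) (_ : Algebra L M),
      IsAlgClosed M ∧ IsScalarTower k K M ∧ IsScalarTower k L M := by
  obtain ⟨M, _, φ, ψ, h⟩ := exists_compositum k K L
  let a := algebraMap M (AlgebraicClosure M)
  let := ((a.comp φ).comp (algebraMap k K)).toAlgebra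
  let := (a.comp φ).toAlgebra
  let := (a.comp ψ).toAlgebra
  refine ⟨AlgebraicClosure M, inferInstance, ‹_›, ‹_›, ‹_›, inferInstance,
    .of_algebraMap_eq' rfl, .of_algebraMap_eq' ?_⟩
  change (a.comp φ).comp (algebraMap k K) = (a.comp ψ).comp (algebraMap k L)
  rw [RingHom.comp_assoc, h, RingHom.comp_assoc]

variable {k' : Type u} [Field k'] [Algebra k k']

/-- `(X ⊗ k') ⊗ L` is `X ⊗ L`. -/
noncomputable def iterIso (L : Type u) [Field L] [Algebra k L] [Algebra k' L]
    [IsScalarTower k k' L] :
    pullback (pullback.snd f (specMap k k')) (specMap k' L) ≅ pullback f (specMap k L) :=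
  pullbackLeftPullbackSndIso f (specMap k k') (specMap k' L) ≪≫
    pullback.congrHom rfl (specMap_comp (k := k))

lemma iterIso_hom_bcMap (L : Type u) [Field L] [Algebra k L] [Algebra k' L]
    [IsScalarTower k k' L] :
    (iterIso f L).hom ≫ bcMap f (K := k') (L := L) =
      pullback.fst (pullback.snd f (specMap k k')) (specMap k' L) := by
  refine pullback.hom_ext ?_ ?_
  · rw [Category.assoc, bcMap_fst]
    simp only [iterIso, Iso.trans_hom, pullback.congrHom_hom, pullback.map, Category.assoc,
      pullback.lift_fst, Category.comp_id]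
    exact pullbackLeftPullbackSndIso_hom_fst _ _ _
  · rw [Category.assoc, bcMap_snd]
    simp only [iterIso, Iso.trans_hom, pullback.congrHom_hom, pullback.map, Category.assoc]
    rw [← Category.assoc (pullback.lift _ _ _), pullback.lift_snd, Category.comp_id,
      ← Category.assoc, pullbackLeftPullbackSndIso_hom_snd, ← pullback.condition]

/-- A point of `X ⊗ k'` over `x` has one point above it in any algebraic extension, if `k'` splits
the separable closure of `k` in the residue field of `x`. -/
lemma subsingleton_iter_fibre {κ : Type u} [Field κ] [Algebra k κ]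
    (ι : Spec (CommRingCat.of κ) ⟶ X) [IsPreimmersion ι]
    (hι : ι ≫ f = Spec.map (CommRingCat.ofHom (algebraMap k κ)))
    (hsplit : ∀ a : separableClosure k κ, ((minpoly k a).map (algebraMap k k')).Splits)
    (L : Type u) [Field L] [Algebra k L] [Algebra k' L] [IsScalarTower k k' L]
    [Algebra.IsAlgebraic k L] {y : ↥(pullback f (specMap k k'))}
    (hy : pullback.fst f (specMap k k') y ∈ Set.range ι) :
    (pullback.fst (pullback.snd f (specMap k k')) (specMap k' L) ⁻¹' {y}).Subsingleton := by
  intro a ha b hb
  rw [Set.mem_preimage, Set.mem_singleton_iff, ← iterIso_hom_bcMap, Scheme.Hom.comp_apply] at ha hb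
  have hm : ∀ c, bcMap f (K := k') (L := L) c = y → c ∈ pullback.fst f (specMap k L) ⁻¹' Set.range ι := by
    intro c hc
    rw [Set.mem_preimage, ← bcMap_fst f (K := k') (L := L), Scheme.Hom.comp_apply, hc]
    exact hy
  exact (Scheme.Hom.homeomorph (iterIso f L).hom).injective
    (injOn_bcMap f ι hι hsplit (hm _ ha) (hm _ hb) (ha.trans hb.symm))

end Groth.Agent.FBase.ConnComp
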