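import Groth.Agent.FBase.ConnComp
import Mathlib.AlgebraicGeometry.Morphisms.Flat

/-!
Irreducible components of base changes of a scheme over a field.
-/

universe u

open CategoryTheory Limits AlgebraicGeometry TensorProduct
open Groth.Agent.FBase.BC Groth.Agent.FBase.BC2 Groth.Agent.FBase.PointScheme
open Groth.Agent.FBase.SepClosed Groth.Agent.FBase.Components Groth.Agent.FBase.Topo
open Groth.Agent.FBase.ConnComp

namespace Groth.Agent.FBase.IrredComp

/-- A flat morphism maps points maximal for generalization to such points. -/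
lemma generization_maximal_map {X Y : Scheme.{u}} (p : Y ⟶ X) [Flat p] {w : Y}
    (hw : ∀ v, v ⤳ w → w ⤳ v) {z : X} (hz : z ⤳ p w) : p w ⤳ z := by
  obtain ⟨v, hv, rfl⟩ := Flat.generalizingMap p hz
  exact (hw v hv).map p.continuous

variable {k : Type u} [Field k] {X : Scheme.{u}} (f : X ⟶ Spec (CommRingCat.of k))

section Algebraic

variable {K : Type u} [Field K] [Algebra k K] [Algebra.IsAlgebraic k K]

/-- Fibres over points in an algebraic extension have no specializations. -/
lemma eq_of_specializes_fibre {a b : ↥(pullback f (specMap k K))} (h : a ⤳ b)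
    (hab : pullback.fst f (specMap k K) a = pullback.fst f (specMap k K) b) : a = b := by
  obtain ⟨κ, _, _, ι, _, hι, hr⟩ := exists_point f (pullback.fst f (specMap k K) a)
  exact eq_of_specializes_of_algebraic f ι hι h (hr.ge rfl) (hr.ge hab.symm)

/-- Points over maximal points are maximal. -/
lemma maximal_of_maximal_fst {w v : ↥(pullback f (specMap k K))}
    (hw : ∀ z, z ⤳ pullback.fst f (specMap k K) w → pullback.fst f (specMap k K) w ⤳ z)
    (hv : v ⤳ w) : w ⤳ v := by
  have h1 := hv.map (pullback.fst f (specMap k K)).continuous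
  have h2 : pullback.fst f (specMap k K) v = pullback.fst f (specMap k K) w :=
    (h1.antisymm (hw _ h1)).eq
  rw [eq_of_specializes_fibre f hv h2]

/-- Components of `X ⊗ K` are the closures of the points over the generic point. -/
lemma mem_irreducibleComponents_iff [IrreducibleSpace X] {W : Set ↥(pullback f (specMap k K))} :
    W ∈ irreducibleComponents ↥(pullback f (specMap k K)) ↔
      ∃ w, pullback.fst f (specMap k K) w = genericPoint X ∧ closure {w} = W := by
  constructor
  · intro hW
    obtain ⟨w, hw⟩ : ∃ w, IsGenericPoint w W :=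
      QuasiSober.sober hW.1 (isClosed_of_mem_irreducibleComponents W hW)
    refine ⟨w, ?_, hw.def⟩
    have h := generization_maximal_map (pullback.fst f (specMap k K))
      (fun v ↦ specializes_of_isGenericPoint_component hW hw) (genericPoint_specializes _)
    exact (h.antisymm (genericPoint_specializes _)).eq
  · rintro ⟨w, hw, rfl⟩
    refine closure_singleton_mem_irreducibleComponents fun v ↦ maximal_of_maximal_fst f ?_
    exact fun z _ ↦ hw ▸ genericPoint_specializes z

/-- Components of `X ⊗ K` correspond to the points over the generic point. -/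
lemma natCard_irreducibleComponents [IrreducibleSpace X] :
    Nat.card ↥(irreducibleComponents ↥(pullback f (specMap k K))) =
      Nat.card ↥(pullback.fst f (specMap k K) ⁻¹' {genericPoint X}) := by
  refine (Nat.card_eq_of_bijective (fun w ↦ ⟨closure {w.1},
    (mem_irreducibleComponents_iff f).mpr ⟨w.1, w.2, rfl⟩⟩) ⟨fun v w h ↦ ?_, fun W ↦ ?_⟩).symm
  · have h' : closure {v.1} = closure {w.1} := congrArg Subtype.val h
    exact Subtype.ext ((specializes_iff_mem_closure.mpr (h'.symm ▸ subset_closure rfl)).antisymm
      (specializes_iff_mem_closure.mpr (h' ▸ subset_closure rfl))).eq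
  · obtain ⟨w, hw, he⟩ := (mem_irreducibleComponents_iff f).mp W.2
    exact ⟨⟨w, hw⟩, Subtype.ext he⟩

end Algebraic

/-- If `η` has one point over it in `X ⊗ k̄`, the preimage of its closure is irreducible in every
extension. -/
lemma isIrreducible_preimage_fst_of_point {Z : Set X} {η : X} (hη : IsGenericPoint η Z)
    (hsub : (pullback.fst f (specMap k (AlgebraicClosure k)) ⁻¹' {η}).Subsingleton)
    {K : Type u} [Field K] [Algebra k K] :
    IsIrreducible (pullback.fst f (specMap k K) ⁻¹' Z) := by
  let p₀ := pullback.fst f (specMap k (AlgebraicClosure k))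
  obtain ⟨w, hw⟩ := (surjective_pullback_fst (K := AlgebraicClosure k) f).surj η
  have h₀ : p₀ ⁻¹' Z = closure {w} := by
    refine subset_antisymm (fun z hz ↦ ?_) (closure_minimal ?_ (hη.isClosed.preimage p₀.continuous))
    · obtain ⟨v, hv, hvη⟩ := Flat.generalizingMap p₀ (hη.specializes hz)
      exact specializes_iff_mem_closure.mp (hsub hw hvη ▸ hv)
    · exact Set.singleton_subset_iff.mpr (show p₀ w ∈ Z from hw.symm ▸ hη.mem)
  have hirr : IsIrreducible (p₀ ⁻¹' Z) := h₀ ▸ isIrreducible_singleton.closure
  let i : AlgebraicClosure k →ₐ[k] AlgebraicClosure K := IsAlgClosed.lift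
  let : Algebra (AlgebraicClosure k) (AlgebraicClosure K) := i.toRingHom.toAlgebra
  have : IsScalarTower k (AlgebraicClosure k) (AlgebraicClosure K) :=
    IsScalarTower.of_algHom i
  let q := bcMap f (K := AlgebraicClosure k) (L := AlgebraicClosure K)
  have := geometricallyIrreducible_bcMap f (K := AlgebraicClosure k) (L := AlgebraicClosure K)
  have := universallyOpen_bcMap f (K := AlgebraicClosure k) (L := AlgebraicClosure K)
  have hq := (surjective_bcMap f (K := AlgebraicClosure k) (L := AlgebraicClosure K)).surj
  have h₁ : IsIrreducible (q ⁻¹' (p₀ ⁻¹' Z)) :=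
    hirr.preimage_of_isPreirreducible_fiber q q.isOpenMap (isPreirreducible_preimage_singleton q)
      (by rw [hq.range_eq, Set.inter_univ]; exact hirr.nonempty)
  let r := bcMap f (K := K) (L := AlgebraicClosure K)
  have e : q ⁻¹' (p₀ ⁻¹' Z) = r ⁻¹' (pullback.fst f (specMap k K) ⁻¹' Z) := by
    ext z
    simp only [Set.mem_preimage, q, p₀, r, ← Scheme.Hom.comp_apply, bcMap_fst]
  rw [e] at h₁
  have h₂ := h₁.image r r.continuous.continuousOn
  rwa [Set.image_preimage_eq _ (surjective_bcMap f (K := K) (L := AlgebraicClosure K)).surj] at h₂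

end Groth.Agent.FBase.IrredComp
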