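import Groth.Agent.FBase.DimAlg
import Groth.Agent.FBase.IrredComp
import Groth.Agent.VarDim.Scheme
import Groth.Agent.TopDimLib.Basic
import Groth.Agent.RedSub.Basic

/-!
Dimensions of components of base changes and products of schemes over a field.
-/

universe u

open CategoryTheory Limits AlgebraicGeometry TensorProduct TopologicalSpace Topology
open Groth.Agent.FBase.BC Groth.Agent.FBase.PointScheme Groth.Agent.FBase.Topo
open Groth.Agent.FBase.IrredComp

namespace Groth.Agent.FBase.Dim

lemma topDim_range {α β : Type u} [TopologicalSpace α] [TopologicalSpace β] {h : α → β}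
    (hh : IsEmbedding h) : topologicalKrullDim α = topologicalKrullDim (Set.range h) :=
  IsHomeomorph.topologicalKrullDim_eq _ hh.toHomeomorph.isHomeomorph

lemma topDim_congr {α : Type u} [TopologicalSpace α] {s t : Set α} (h : s = t) :
    topologicalKrullDim s = topologicalKrullDim t := h ▸ rfl

lemma topDim_image {α β : Type u} [TopologicalSpace α] [TopologicalSpace β] {h : α → β}
    (hh : IsEmbedding h) (s : Set α) : topologicalKrullDim s = topologicalKrullDim (h '' s) :=
  (topDim_range (hh.comp IsEmbedding.subtypeVal)).trans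
    (topDim_congr (by rw [Set.range_comp, Subtype.range_coe]))

section Field

variable {k : Type u} [Field k]

/-- An irreducible scheme locally of finite type over a field has finite dimension, shared by all
nonempty opens. -/
lemma topDim_opens {X : Scheme.{u}} (f : X ⟶ Spec (CommRingCat.of k)) [LocallyOfFiniteType f]
    [IrreducibleSpace X] (U : X.Opens) (hU : (U : Set X).Nonempty) :
    topologicalKrullDim (U : Set X) = topologicalKrullDim X := by
  refine le_antisymm (topologicalKrullDim_subspace_le _ _) ?_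
  let : X.Over (Spec (CommRingCat.of k)) := ⟨f⟩
  have : LocallyOfFiniteType (X ↘ Spec (CommRingCat.of k)) := ‹LocallyOfFiniteType f›
  rw [VarDim.topologicalKrullDim_eq_of_irreducible k]
  obtain ⟨x, hx⟩ := hU
  exact VarDim.le_topologicalKrullDim_opens k U hx (genericPoint_specializes x)

lemma exists_natCast_eq_topDim {X : Scheme.{u}} (f : X ⟶ Spec (CommRingCat.of k))
    [LocallyOfFiniteType f] [IrreducibleSpace X] :
    ∃ n : ℕ, topologicalKrullDim X = (n : WithBot ℕ∞) := by
  let : X.Over (Spec (CommRingCat.of k)) := ⟨f⟩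
  have : LocallyOfFiniteType (X ↘ Spec (CommRingCat.of k)) := ‹LocallyOfFiniteType f›
  exact ⟨_, VarDim.topologicalKrullDim_eq_of_irreducible k⟩

lemma finiteType_of_chart {X : Scheme.{u}} (f : X ⟶ Spec (CommRingCat.of k))
    [LocallyOfFiniteType f] {A : Type u} [CommRing A] [Algebra k A]
    (j : Spec (CommRingCat.of A) ⟶ X) [IsOpenImmersion j]
    (hj : j ≫ f = Spec.map (CommRingCat.ofHom (algebraMap k A))) : Algebra.FiniteType k A := by
  have h : LocallyOfFiniteType (Spec.map (CommRingCat.ofHom (algebraMap k A))) :=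
    hj ▸ inferInstance
  exact RingHom.finiteType_algebraMap.mp ((HasRingHomProperty.Spec_iff (P := @LocallyOfFiniteType)).mp h)

lemma isDomain_of_chart {X : Scheme.{u}} [IsIntegral X] {A : Type u} [CommRing A]
    (j : Spec (CommRingCat.of A) ⟶ X) [IsOpenImmersion j] (p : PrimeSpectrum A) : IsDomain A := by
  have : Nonempty (Spec (CommRingCat.of A)) := ⟨p⟩
  have := isIntegral_of_isOpenImmersion j
  exact (affine_isIntegral_iff (CommRingCat.of A)).mp this

/-- The dimension of an affine chart of an integral scheme. -/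
lemma topDim_chart {X : Scheme.{u}} (f : X ⟶ Spec (CommRingCat.of k)) [LocallyOfFiniteType f]
    [IrreducibleSpace X] {A : Type u} [CommRing A] (j : Spec (CommRingCat.of A) ⟶ X)
    [IsOpenImmersion j] (p : PrimeSpectrum A) :
    ringKrullDim A = topologicalKrullDim X := by
  rw [← topDim_opens f j.opensRange ⟨_, p, rfl⟩, ← PrimeSpectrum.topologicalKrullDim_eq_ringKrullDim]
  exact (topDim_range j.isOpenEmbedding.isEmbedding).trans rfl

/-- The dimension of a component, computed on a chart through its generic point. -/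
lemma exists_topDim_component {P : Scheme.{u}} (π : P ⟶ Spec (CommRingCat.of k))
    [LocallyOfFiniteType π] {R : Type u} [CommRing R] (j : Spec (CommRingCat.of R) ⟶ P)
    [IsOpenImmersion j] {W : Set P} (hW : W ∈ irreducibleComponents P) {w : P}
    (hw : IsGenericPoint w W) (hwj : w ∈ Set.range j) :
    ∃ P₀ ∈ minimalPrimes R, topologicalKrullDim W = ringKrullDim (R ⧸ P₀) := by
  obtain ⟨P₀, rfl⟩ := hwj
  have hmin : P₀.asIdeal ∈ minimalPrimes R := by
    refine ⟨⟨P₀.isPrime, bot_le⟩, fun q hq hqP ↦ ?_⟩
    have hsp : (⟨q, hq.1⟩ : PrimeSpectrum R) ⤳ P₀ := (PrimeSpectrum.le_iff_specializes _ _).mp hqP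
    have h1 := specializes_of_isGenericPoint_component hW hw (hsp.map j.continuous)
    exact (PrimeSpectrum.le_iff_specializes P₀ ⟨q, hq.1⟩).mpr
      (j.isOpenEmbedding.isInducing.specializes_iff.mp h1)
  refine ⟨P₀.asIdeal, hmin, ?_⟩
  let C : Closeds P := ⟨W, isClosed_of_mem_irreducibleComponents W hW⟩
  let I := Scheme.IdealSheafData.vanishingIdeal C
  have hr : Set.range I.subschemeι = W := RedSub.range_vanishingIdeal_subschemeι C
  have hemb := I.subschemeι.isEmbedding
  have : IrreducibleSpace I.subscheme := by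
    rw [irreducibleSpace_def, Set.top_eq_univ]
    have h1 : IsPreirreducible (I.subschemeι '' Set.univ) := by
      rw [Set.image_univ, hr]; exact hW.1.2
    refine ⟨?_, fun u v hu hv ⟨a, _, ha⟩ ⟨b, _, hb⟩ ↦ ?_⟩
    · obtain ⟨x, hx⟩ := hr.ge hw.mem
      exact ⟨x, trivial⟩
    · obtain ⟨u', hu', rfl⟩ := hemb.isInducing.isOpen_iff.mp hu
      obtain ⟨v', hv', rfl⟩ := hemb.isInducing.isOpen_iff.mp hv
      obtain ⟨_, ⟨c, -, rfl⟩, hc⟩ := h1 u' v' hu' hv' ⟨_, ⟨a, trivial, rfl⟩, ha⟩ ⟨_, ⟨b, trivial, rfl⟩, hb⟩
      exact ⟨c, trivial, hc⟩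
  let U : I.subscheme.Opens := I.subschemeι ⁻¹ᵁ j.opensRange
  have hU : (U : Set I.subscheme).Nonempty := by
    obtain ⟨x, hx⟩ := hr.ge hw.mem
    exact ⟨x, show I.subschemeι x ∈ Set.range j from hx ▸ ⟨P₀, rfl⟩⟩
  have h1 : topologicalKrullDim W = topologicalKrullDim (U : Set I.subscheme) := by
    rw [topDim_opens (I.subschemeι ≫ π) U hU]
    exact ((topDim_range hemb).trans (topDim_congr hr)).symm
  rw [h1, topDim_image hemb, ← PrimeSpectrum.topologicalKrullDim_eq_ringKrullDim,
    topDim_range (j.isOpenEmbedding.isEmbedding.comp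
      (PrimeSpectrum.isClosedEmbedding_comap_of_surjective _ (Ideal.Quotient.mk P₀.asIdeal)
        Ideal.Quotient.mk_surjective).isEmbedding)]
  refine topDim_congr ?_
  refine Eq.trans ?_ (Set.range_comp _ _).symm
  have hz : Set.range (PrimeSpectrum.comap (Ideal.Quotient.mk P₀.asIdeal)) =
      PrimeSpectrum.zeroLocus P₀.asIdeal := by
    rw [range_comap_of_surjective _ _ Ideal.Quotient.mk_surjective, Ideal.mk_ker]
  refine Eq.trans ?_ (congrArg (Set.image j) hz.symm)
  rw [Scheme.Hom.coe_preimage, Set.image_preimage_eq_inter_range, hr]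
  ext z
  constructor
  · rintro ⟨⟨Q, rfl⟩, hzW⟩
    refine ⟨Q, ?_, rfl⟩
    have := hw.specializes hzW
    exact (PrimeSpectrum.le_iff_specializes P₀ Q).mpr
      (j.isOpenEmbedding.isInducing.specializes_iff.mp this)
  · rintro ⟨Q, hQ, rfl⟩
    refine ⟨⟨Q, rfl⟩, ?_⟩
    exact hw.def ▸ (((PrimeSpectrum.le_iff_specializes P₀ Q).mp hQ).map j.continuous).mem_closure

/-- Components of the base change of an integral scheme have its dimension. -/
lemma topDim_component_bc_of_integral {X : Scheme.{u}} [IsIntegral X]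
    (f : X ⟶ Spec (CommRingCat.of k)) [LocallyOfFiniteType f] (K : Type u) [Field K] [Algebra k K]
    {W : Set ↥(pullback f (specMap k K))}
    (hW : W ∈ irreducibleComponents ↥(pullback f (specMap k K))) :
    topologicalKrullDim W = topologicalKrullDim X := by
  obtain ⟨w, hw⟩ : ∃ w, IsGenericPoint w W :=
    QuasiSober.sober hW.1 (isClosed_of_mem_irreducibleComponents W hW)
  have hp : pullback.fst f (specMap k K) w = genericPoint X :=
    ((generization_maximal_map _ (fun v ↦ specializes_of_isGenericPoint_component hW hw)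
      (genericPoint_specializes _)).antisymm (genericPoint_specializes _)).eq
  obtain ⟨A, _, _, j, p, _, hjp, hj⟩ := exists_chart f (genericPoint X)
  have := isDomain_of_chart j p
  have := finiteType_of_chart f j hj
  have hwj : w ∈ Set.range (bcChart f j K hj) := by
    rw [range_bcChart]
    exact ⟨p, hjp.trans hp.symm⟩
  obtain ⟨P₀, hP₀, hdim⟩ := exists_topDim_component (pullback.snd f (specMap k K))
    (bcChart f j K hj) hW hw hwj
  rw [hdim, DimAlg.ringKrullDim_baseChange_component A K hP₀, topDim_chart f j p]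

/-- Components of a product of integral schemes have the sum of the dimensions. -/
lemma topDim_component_prod_of_integral {X Y : Scheme.{u}} [IsIntegral X] [IsIntegral Y]
    (f : X ⟶ Spec (CommRingCat.of k)) (g : Y ⟶ Spec (CommRingCat.of k)) [LocallyOfFiniteType f]
    [LocallyOfFiniteType g] {W : Set ↥(pullback f g)}
    (hW : W ∈ irreducibleComponents ↥(pullback f g)) :
    topologicalKrullDim W = topologicalKrullDim X + topologicalKrullDim Y := by
  obtain ⟨w, hw⟩ : ∃ w, IsGenericPoint w W :=
    QuasiSober.sober hW.1 (isClosed_of_mem_irreducibleComponents W hW)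
  have hmax := fun v ↦ specializes_of_isGenericPoint_component (y := v) hW hw
  have hp : pullback.fst f g w = genericPoint X :=
    ((generization_maximal_map _ hmax (genericPoint_specializes _)).antisymm
      (genericPoint_specializes _)).eq
  have hq : pullback.snd f g w = genericPoint Y :=
    ((generization_maximal_map _ hmax (genericPoint_specializes _)).antisymm
      (genericPoint_specializes _)).eq
  obtain ⟨A, _, _, j, p, _, hjp, hj⟩ := exists_chart f (genericPoint X)
  obtain ⟨B, _, _, i, r, _, hir, hi⟩ := exists_chart g (genericPoint Y)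
  have := isDomain_of_chart j p
  have := finiteType_of_chart f j hj
  have := isDomain_of_chart i r
  have := finiteType_of_chart g i hi
  let c := (pullbackSpecIso k A B).inv ≫ pullback.map _ _ f g j i (𝟙 _)
    (by rw [hj, Category.comp_id]) (by rw [hi, Category.comp_id])
  have hwc : w ∈ Set.range c := by
    have hs : Function.Surjective (pullbackSpecIso k A B).inv :=
      (Scheme.Hom.homeomorph (pullbackSpecIso k A B).inv).surjective
    simp only [c, Scheme.Hom.comp_base, TopCat.coe_comp]
    rw [Set.range_comp, hs.range_eq, Set.image_univ, Scheme.Pullback.range_map]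
    exact ⟨⟨p, hjp.trans hp.symm⟩, ⟨r, hir.trans hq.symm⟩⟩
  obtain ⟨P₀, hP₀, hdim⟩ := exists_topDim_component (pullback.fst f g ≫ f) c hW hw hwc
  rw [hdim, DimAlg.ringKrullDim_product_component A B hP₀, topDim_chart f j p, topDim_chart g i r]

end Field

lemma isIntegral_vanishingIdeal {X : Scheme.{u}} (C : Closeds X) (hC : IsIrreducible (C : Set X)) :
    IsIntegral (Scheme.IdealSheafData.vanishingIdeal C).subscheme := by
  let I := Scheme.IdealSheafData.vanishingIdeal C
  have hr : Set.range I.subschemeι = C := RedSub.range_vanishingIdeal_subschemeι C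
  have : IrreducibleSpace I.subscheme := by
    rw [irreducibleSpace_def, Set.top_eq_univ]
    refine ⟨?_, fun u v hu hv ⟨a, _, ha⟩ ⟨b, _, hb⟩ ↦ ?_⟩
    · obtain ⟨x, hx⟩ := hC.nonempty
      obtain ⟨y, -⟩ := hr.ge hx
      exact ⟨y, trivial⟩
    · obtain ⟨u', hu', rfl⟩ := I.subschemeι.isEmbedding.isInducing.isOpen_iff.mp hu
      obtain ⟨v', hv', rfl⟩ := I.subschemeι.isEmbedding.isInducing.isOpen_iff.mp hv
      obtain ⟨_, hc, hc'⟩ := hC.2 u' v' hu' hv' ⟨_, hr.le ⟨a, rfl⟩, ha⟩ ⟨_, hr.le ⟨b, rfl⟩, hb⟩
      obtain ⟨c, rfl⟩ := hr.ge hc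
      exact ⟨c, trivial, hc'⟩
  exact isIntegral_of_irreducibleSpace_of_isReduced _

/-- Transport of components along embeddings. -/
lemma exists_component_of_embedding {α β : Type u} [TopologicalSpace α] [TopologicalSpace β]
    {h : α → β} (hh : IsEmbedding h) {S : Set β} (hS : Set.range h = S) {W : Set β}
    (hWS : W ⊆ S) (hW : IsIrreducible W)
    (hmax : ∀ V : Set β, IsIrreducible V → V ⊆ S → W ⊆ V → V ⊆ W) :
    ∃ W₀ ∈ irreducibleComponents α, topologicalKrullDim W = topologicalKrullDim W₀ := by
  have himg : h '' (h ⁻¹' W) = W := by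
    rw [Set.image_preimage_eq_inter_range, hS, Set.inter_eq_left.mpr hWS]
  refine ⟨h ⁻¹' W, ⟨⟨?_, ?_⟩, ?_⟩, ((topDim_image hh _).trans (topDim_congr himg)).symm⟩
  · obtain ⟨x, hx⟩ := hW.nonempty
    obtain ⟨y, rfl⟩ := hS.ge (hWS hx)
    exact ⟨y, hx⟩
  · intro u v hu hv ⟨a, ha, hau⟩ ⟨b, hb, hbv⟩
    obtain ⟨u', hu', rfl⟩ := hh.isInducing.isOpen_iff.mp hu
    obtain ⟨v', hv', rfl⟩ := hh.isInducing.isOpen_iff.mp hv
    obtain ⟨c, hcW, hc⟩ := hW.2 u' v' hu' hv' ⟨_, ha, hau⟩ ⟨_, hb, hbv⟩
    obtain ⟨c', rfl⟩ := hS.ge (hWS hcW)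
    exact ⟨c', hcW, hc⟩
  · intro V hV hle
    have h1 := hmax (h '' V) (hV.image h hh.continuous.continuousOn) (hS ▸ Set.image_subset_range h V)
      (himg.symm.le.trans (Set.image_mono hle))
    exact fun x hx ↦ h1 ⟨x, hx, rfl⟩

section Components

variable {k : Type u} [Field k]

/-- Maximal irreducible subsets of the preimage of an irreducible closed set keep its dimension. -/
lemma topDim_maximal_preimage {X : Scheme.{u}} (f : X ⟶ Spec (CommRingCat.of k))
    [LocallyOfFiniteType f] (K : Type u) [Field K] [Algebra k K] {Z : Set X} (hZc : IsClosed Z)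
    (hZi : IsIrreducible Z) {W : Set ↥(pullback f (specMap k K))}
    (hWZ : W ⊆ pullback.fst f (specMap k K) ⁻¹' Z) (hW : IsIrreducible W)
    (hmax : ∀ V : Set ↥(pullback f (specMap k K)), IsIrreducible V →
      V ⊆ pullback.fst f (specMap k K) ⁻¹' Z → W ⊆ V → V ⊆ W) :
    topologicalKrullDim W = topologicalKrullDim Z := by
  let C : Closeds X := ⟨Z, hZc⟩
  let I := Scheme.IdealSheafData.vanishingIdeal C
  have := isIntegral_vanishingIdeal C hZi
  have hr : Set.range I.subschemeι = Z := RedSub.range_vanishingIdeal_subschemeι C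
  let m := pullback.map (I.subschemeι ≫ f) (specMap k K) f (specMap k K) I.subschemeι (𝟙 _) (𝟙 _)
    (by simp) (by simp)
  have : IsPreimmersion m := by
    have h1 : IsPullback (pullback.fst (I.subschemeι ≫ f) (specMap k K)) m I.subschemeι
        (pullback.fst f (specMap k K)) := by
      refine IsPullback.of_right (h₁₂ := pullback.snd f (specMap k K)) (v₁₃ := specMap k K)
        (h₂₂ := f) ?_ ?_ (IsPullback.of_hasPullback f (specMap k K)).flip |>.flip
      · rw [pullback.lift_snd, Category.comp_id]
        exact (IsPullback.of_hasPullback _ _).flip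
      · exact (pullback.lift_fst _ _ _)
    exact MorphismProperty.of_isPullback (P := @IsPreimmersion) h1 inferInstance
  have hm : Set.range m = pullback.fst f (specMap k K) ⁻¹' Z := by
    refine (Scheme.Pullback.range_map ..).trans ?_
    rw [hr]
    simp
  obtain ⟨W₀, hW₀, hd⟩ := exists_component_of_embedding m.isEmbedding hm hWZ hW hmax
  rw [hd, topDim_component_bc_of_integral (I.subschemeι ≫ f) K hW₀]
  exact (topDim_range I.subschemeι.isEmbedding).trans (topDim_congr hr)

lemma topDim_le_of_components {α : Type u} [TopologicalSpace α] {c : WithBot ℕ∞}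
    (h : ∀ T ∈ irreducibleComponents α, topologicalKrullDim T ≤ c) : topologicalKrullDim α ≤ c := by
  rw [TopDimLib.topDim_le_iff]
  intro l
  obtain ⟨T, hT, hle⟩ := exists_preirreducible (l.last : Set α) l.last.isIrreducible.2
  have hTc : T ∈ irreducibleComponents α :=
    ⟨⟨l.last.isIrreducible.1.mono hle.1, hT⟩, fun U hU hTU ↦ (hle.2 U hU.2 hTU).le⟩
  exact (TopDimLib.length_le_of_subset l hle.1).trans (h T hTc)

end Components

end Groth.Agent.FBase.Dim
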