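import Groth.Agent.FBase.BC
import Mathlib.RingTheory.Localization.BaseChange
import Mathlib.RingTheory.LocalProperties.Reduced
import Mathlib.RingTheory.RingHom.Flat
import Mathlib.RingTheory.Flat.FaithfullyFlat.Algebra
import Mathlib.RingTheory.Localization.AtPrime.Basic
import Mathlib.FieldTheory.PurelyInseparable.PerfectClosure

/-!
Geometric reducedness at a prime.
-/

universe u

open TensorProduct
open Groth.Agent.FBase.TensorAlgClosed

namespace Groth.Agent.FBase.Point

variable {k : Type u} [Field k] {A : Type u} [CommRing A] [Algebra k A]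
variable {K : Type u} [Field K] [Algebra k K]

/-- `A ⊗ K → B ⊗ K`. -/
noncomputable abbrev mapK (B : Type u) [CommRing B] [Algebra k B] [Algebra A B]
    [IsScalarTower k A B] (K : Type u) [Field K] [Algebra k K] : A ⊗[k] K →ₐ[k] B ⊗[k] K :=
  Algebra.TensorProduct.map (IsScalarTower.toAlgHom k A B) (AlgHom.id k K)

lemma mapK_algebraMap (B : Type u) [CommRing B] [Algebra k B] [Algebra A B] [IsScalarTower k A B]
    (a : A) : mapK B K (algebraMap A (A ⊗[k] K) a) = algebraMap B (B ⊗[k] K) (algebraMap A B a) := by
  simp [mapK, Algebra.TensorProduct.algebraMap_apply]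

section Localization

variable (M : Submonoid A) (B : Type u) [CommRing B] [Algebra k B] [Algebra A B]
  [IsScalarTower k A B] [IsLocalization M B]

include M in
lemma exists_mapK_eq (z : B ⊗[k] K) :
    ∃ m ∈ M, ∃ w : A ⊗[k] K,
      z * algebraMap B (B ⊗[k] K) (algebraMap A B m) = mapK B K w := by
  let := (mapK (k := k) (A := A) B K).toRingHom.toAlgebra
  have : IsScalarTower A (A ⊗[k] K) (B ⊗[k] K) := .of_algebraMap_eq fun a ↦ by
    rw [RingHom.algebraMap_toAlgebra, AlgHom.toRingHom_eq_coe, RingHom.coe_coe, mapK_algebraMap]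
    rfl
  have := IsLocalization.tensorProduct_tensorProduct k K M B (by ext x; simp [RingHom.algebraMap_toAlgebra, mapK])
  obtain ⟨⟨w, ⟨_, m, hm, rfl⟩⟩, h⟩ := IsLocalization.surj (Algebra.algebraMapSubmonoid (A ⊗[k] K) M) z
  refine ⟨m, hm, w, ?_⟩
  rw [← mapK_algebraMap]
  exact h

include M in
lemma exists_mul_eq_zero {w : A ⊗[k] K} (hw : mapK B K w = 0) :
    ∃ m ∈ M, algebraMap A (A ⊗[k] K) m * w = 0 := by
  let := (mapK (k := k) (A := A) B K).toRingHom.toAlgebra
  have : IsScalarTower A (A ⊗[k] K) (B ⊗[k] K) := .of_algebraMap_eq fun a ↦ by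
    rw [RingHom.algebraMap_toAlgebra, AlgHom.toRingHom_eq_coe, RingHom.coe_coe, mapK_algebraMap]
    rfl
  have := IsLocalization.tensorProduct_tensorProduct k K M B (by ext x; simp [RingHom.algebraMap_toAlgebra, mapK])
  obtain ⟨⟨_, m, hm, rfl⟩, h⟩ :=
    (IsLocalization.map_eq_zero_iff (Algebra.algebraMapSubmonoid (A ⊗[k] K) M) (B ⊗[k] K) w).mp hw
  exact ⟨m, hm, h⟩

include M in
lemma isGeometricallyReduced_of_isLocalization [Algebra.IsGeometricallyReduced k A] :
    Algebra.IsGeometricallyReduced k B := by
  rw [Algebra.isGeometricallyReduced_field_iff]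
  suffices _root_.IsReduced (B ⊗[k] AlgebraicClosure k) from
    isReduced_of_injective _ (Algebra.TensorProduct.comm k (AlgebraicClosure k) B).injective
  have : _root_.IsReduced (AlgebraicClosure k ⊗[k] A) := isReduced_tensor_of_isGeometricallyReduced
  have : _root_.IsReduced (A ⊗[k] AlgebraicClosure k) :=
    isReduced_of_injective _ (Algebra.TensorProduct.comm k A (AlgebraicClosure k)).injective
  let := (mapK (k := k) (A := A) B (AlgebraicClosure k)).toRingHom.toAlgebra
  have : IsScalarTower A (A ⊗[k] AlgebraicClosure k) (B ⊗[k] AlgebraicClosure k) :=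
    .of_algebraMap_eq fun a ↦ by
      rw [RingHom.algebraMap_toAlgebra, AlgHom.toRingHom_eq_coe, RingHom.coe_coe, mapK_algebraMap]
      rfl
  have := IsLocalization.tensorProduct_tensorProduct k (AlgebraicClosure k) M B
    (by ext x; simp [RingHom.algebraMap_toAlgebra, mapK])
  exact isReduced_localizationPreserves (Algebra.algebraMapSubmonoid (A ⊗[k] AlgebraicClosure k) M)
    (B ⊗[k] AlgebraicClosure k) ‹_›

end Localization

variable (p : Ideal A) [p.IsPrime]

/-- If the local ring at `p` is geometrically reduced, all local rings above `p` after extending the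
base field are reduced. -/
lemma isReduced_localization_of_isGeometricallyReduced
    [Algebra.IsGeometricallyReduced k (Localization.AtPrime p)] (P : Ideal (A ⊗[k] K)) [P.IsPrime]
    (hP : P.comap (algebraMap A (A ⊗[k] K)) = p) :
    _root_.IsReduced (Localization.AtPrime P) := by
  have : _root_.IsReduced (K ⊗[k] Localization.AtPrime p) :=
    isReduced_tensor_of_isGeometricallyReduced
  have : _root_.IsReduced (Localization.AtPrime p ⊗[k] K) :=
    isReduced_of_injective _ (Algebra.TensorProduct.comm k (Localization.AtPrime p) K).injective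
  refine ⟨fun z hz ↦ ?_⟩
  obtain ⟨w, s, rfl⟩ := IsLocalization.exists_mk'_eq P.primeCompl z
  rw [IsLocalization.mk'_eq_zero_iff]
  have hw : IsNilpotent (algebraMap (A ⊗[k] K) (Localization.AtPrime P) w) := by
    rw [← IsLocalization.mk'_spec (Localization.AtPrime P) w s]
    exact (Commute.all _ _).isNilpotent_mul_right hz
  obtain ⟨n, hn⟩ := hw
  rw [← map_pow, IsLocalization.map_eq_zero_iff P.primeCompl] at hn
  obtain ⟨t, ht⟩ := hn
  have hzero : mapK (Localization.AtPrime p) K ((t : A ⊗[k] K) * w) = 0 := by
    refine IsReduced.eq_zero _ ⟨n + 1, ?_⟩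
    rw [← map_pow, mul_pow, pow_succ (w : A ⊗[k] K) n, pow_succ' (t : A ⊗[k] K) n]
    linear_combination (norm := skip) (congrArg (mapK (Localization.AtPrime p) K) ht) *
      mapK (Localization.AtPrime p) K ((t : A ⊗[k] K) ^ n * w)
    simp only [map_mul, map_zero]
    ring
  obtain ⟨a, ha, h⟩ := exists_mul_eq_zero p.primeCompl (Localization.AtPrime p) hzero
  refine ⟨⟨algebraMap A (A ⊗[k] K) a * t, P.primeCompl.mul_mem (fun h ↦ ha ?_) t.2⟩, ?_⟩
  · rwa [← hP]
  · rw [mul_assoc]; exact h

/-- Conversely, over an integral extension, reducedness of the local rings above `p` gives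
reducedness of `A_p ⊗ K`. -/
lemma isReduced_tensor_atPrime [Algebra.IsIntegral k K]
    (h : ∀ (P : Ideal (A ⊗[k] K)) [P.IsPrime], P.comap (algebraMap A (A ⊗[k] K)) = p →
      _root_.IsReduced (Localization.AtPrime P)) :
    _root_.IsReduced (Localization.AtPrime p ⊗[k] K) := by
  refine ⟨fun z hz ↦ ?_⟩
  by_contra hne
  let Ap := Localization.AtPrime p
  obtain ⟨m, hm, hle⟩ := Ideal.exists_le_maximal (Submodule.colon (R := Ap ⊗[k] K) ⊥ {z})
    (by
      rw [Ideal.ne_top_iff_one, Submodule.mem_colon_singleton]
      simpa using hne)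
  have hint : Algebra.IsIntegral Ap (Ap ⊗[k] K) := inferInstance
  have hmax : (m.comap (algebraMap Ap (Ap ⊗[k] K))).IsMaximal :=
    Ideal.isMaximal_comap_of_isIntegral_of_isMaximal m
  have hm' : m.comap (algebraMap Ap (Ap ⊗[k] K)) = IsLocalRing.maximalIdeal Ap :=
    IsLocalRing.eq_maximalIdeal hmax
  let P := m.comap (mapK (A := A) Ap K).toRingHom
  have hPp : P.comap (algebraMap A (A ⊗[k] K)) = p := by
    rw [← IsLocalization.AtPrime.under_maximalIdeal Ap p, ← hm']
    ext a
    simp only [P, Ideal.mem_comap, AlgHom.toRingHom_eq_coe, RingHom.coe_coe, mapK_algebraMap]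
  have := h P hPp
  obtain ⟨a, ha, w, hw⟩ := exists_mapK_eq p.primeCompl Ap z
  obtain ⟨n, hn⟩ := hz
  have hwn : mapK Ap K (w ^ n) = 0 := by rw [map_pow, ← hw, mul_pow, hn, zero_mul]
  obtain ⟨a', ha', h'⟩ := exists_mul_eq_zero p.primeCompl Ap hwn
  have hnil : IsNilpotent (algebraMap (A ⊗[k] K) (Localization.AtPrime P) w) := by
    refine ⟨n, ?_⟩
    rw [← map_pow, IsLocalization.map_eq_zero_iff P.primeCompl]
    refine ⟨⟨algebraMap A (A ⊗[k] K) a', fun h ↦ ha' ?_⟩, h'⟩
    rwa [← hPp]
  obtain ⟨t, ht⟩ := (IsLocalization.map_eq_zero_iff P.primeCompl (Localization.AtPrime P) w).mp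
    hnil.eq_zero
  have hzt : algebraMap Ap (Ap ⊗[k] K) (algebraMap A Ap a) * mapK Ap K (t : A ⊗[k] K) ∈ m := by
    refine hle (Submodule.mem_colon_singleton.mpr ?_)
    rw [Submodule.mem_bot, smul_eq_mul, mul_assoc, mul_comm (mapK Ap K _) z,
      ← mul_assoc, mul_comm (algebraMap Ap _ _) z, hw, ← map_mul, mul_comm w, ht, map_zero]
  rcases (hm.isPrime.mem_or_mem hzt) with h0 | h0
  · have : algebraMap A Ap a ∈ IsLocalRing.maximalIdeal Ap := by rw [← hm']; exact h0
    exact this (IsLocalization.map_units Ap ⟨a, ha⟩)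
  · exact t.2 h0

lemma isGeometricallyReduced_atPrime_of_forall
    (h : ∀ (P : Ideal (A ⊗[k] AlgebraicClosure k)) [P.IsPrime],
      P.comap (algebraMap A (A ⊗[k] AlgebraicClosure k)) = p →
      _root_.IsReduced (Localization.AtPrime P)) :
    Algebra.IsGeometricallyReduced k (Localization.AtPrime p) := by
  rw [Algebra.isGeometricallyReduced_field_iff]
  have := isReduced_tensor_atPrime p h
  exact isReduced_of_injective _
    (Algebra.TensorProduct.comm k (AlgebraicClosure k) (Localization.AtPrime p)).injective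

/-- Geometric reducedness can be checked on one perfect extension. -/
lemma isGeometricallyReduced_of_perfectField_of_isReduced {B : Type u} [CommRing B] [Algebra k B]
    {L : Type u} [Field L] [Algebra k L] [PerfectField L] [_root_.IsReduced (B ⊗[k] L)] :
    Algebra.IsGeometricallyReduced k B := by
  have : _root_.IsReduced (L ⊗[k] B) :=
    isReduced_of_injective _ (Algebra.TensorProduct.comm k L B).injective
  have hgr : Algebra.IsGeometricallyReduced L (L ⊗[k] B) := isGeometricallyReduced_of_perfectField
  have hL : _root_.IsReduced (AlgebraicClosure L ⊗[L] (L ⊗[k] B)) :=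
    isReduced_tensor_of_isGeometricallyReduced
  have : _root_.IsReduced (AlgebraicClosure L ⊗[k] B) :=
    isReduced_of_injective _ (Algebra.TensorProduct.cancelBaseChange k L (AlgebraicClosure L)
      (AlgebraicClosure L) B).symm.injective
  rw [Algebra.isGeometricallyReduced_field_iff]
  exact isReduced_of_injective
    (Algebra.TensorProduct.map (IsAlgClosed.lift : AlgebraicClosure k →ₐ[k] AlgebraicClosure L)
      (AlgHom.id k _))
    (Module.Flat.rTensor_preserves_injective_linearMap _ (RingHom.injective _))

/-- `A ⊗ L → A ⊗ Ω` is flat. -/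
lemma flat_map_tower (A : Type u) [CommRing A] [Algebra k A] (L Ω : Type u) [Field L] [Field Ω]
    [Algebra k L] [Algebra k Ω] [Algebra L Ω] [IsScalarTower k L Ω] :
    RingHom.Flat (Algebra.TensorProduct.map (AlgHom.id k A)
      (IsScalarTower.toAlgHom k L Ω)).toRingHom := by
  let e : (L ⊗[k] A) ⊗[L] Ω ≃+* A ⊗[k] Ω :=
    (Algebra.TensorProduct.comm L (L ⊗[k] A) Ω).toRingEquiv.trans
      ((Algebra.TensorProduct.cancelBaseChange k L Ω Ω A).toRingEquiv.trans
        (Algebra.TensorProduct.comm k Ω A).toRingEquiv)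
  have h : (Algebra.TensorProduct.map (AlgHom.id k A) (IsScalarTower.toAlgHom k L Ω)).toRingHom =
      e.toRingHom.comp ((algebraMap (L ⊗[k] A) ((L ⊗[k] A) ⊗[L] Ω)).comp
        (Algebra.TensorProduct.comm k A L).toRingEquiv.toRingHom) := by
    refine RingHom.ext fun z ↦ ?_
    induction z using TensorProduct.induction_on with
    | zero => simp only [map_zero]
    | tmul a l =>
      simp [e, Algebra.TensorProduct.algebraMap_apply, Algebra.smul_def]
    | add x y hx hy => simp only [map_add, hx, hy]
  rw [h]
  exact ((RingHom.Flat.of_bijective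
    (Algebra.TensorProduct.comm k A L).toRingEquiv.bijective).comp
    (RingHom.flat_algebraMap_iff.mpr inferInstance)).comp (RingHom.Flat.of_bijective e.bijective)

/-- One reduced local ring over a perfect extension suffices: tower version. -/
lemma isGeometricallyReduced_atPrime_of_tower {L Ω : Type u} [Field L] [Field Ω] [Algebra k L]
    [Algebra k Ω] [Algebra L Ω] [IsScalarTower k L Ω] [IsPurelyInseparable k L] [PerfectField L]
    (P : Ideal (A ⊗[k] Ω)) [P.IsPrime] (hP : P.comap (algebraMap A (A ⊗[k] Ω)) = p)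
    [_root_.IsReduced (Localization.AtPrime P)] :
    Algebra.IsGeometricallyReduced k (Localization.AtPrime p) := by
  have : _root_.IsReduced (Localization.AtPrime p ⊗[k] L) := by
    refine isReduced_tensor_atPrime p fun Q _ hQ ↦ ?_
    let ι := (Algebra.TensorProduct.map (AlgHom.id k A) (IsScalarTower.toAlgHom k L Ω)).toRingHom
    have hQP : Q = P.comap ι := by
      refine congrArg PrimeSpectrum.asIdeal
        ((PrimeSpectrum.isHomeomorph_comap_of_isPurelyInseparable k L A).injective
          (a₁ := ⟨Q, ‹_›⟩) (a₂ := ⟨P.comap ι, inferInstance⟩) ?_)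
      refine PrimeSpectrum.ext ?_
      change Q.comap _ = (P.comap ι).comap _
      rw [hQ, Ideal.comap_comap, ← hP]
      congr 1
      ext a
      simp [ι, Algebra.TensorProduct.algebraMap_apply]
    subst hQP
    have hflat := RingHom.Flat.localRingHom (flat_map_tower (k := k) A L Ω) P (P.comap ι) rfl
    let := (Localization.localRingHom (P.comap ι) P ι rfl).toAlgebra
    have : Module.Flat (Localization.AtPrime (P.comap ι)) (Localization.AtPrime P) := hflat
    have : IsLocalHom (algebraMap (Localization.AtPrime (P.comap ι)) (Localization.AtPrime P)) :=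
      Localization.isLocalHom_localRingHom _ _ _ rfl
    have := Module.FaithfullyFlat.of_flat_of_isLocalHom
      (A := Localization.AtPrime (P.comap ι)) (B := Localization.AtPrime P)
    exact isReduced_of_injective _ (FaithfulSMul.algebraMap_injective
      (Localization.AtPrime (P.comap ι)) (Localization.AtPrime P))
  exact isGeometricallyReduced_of_perfectField_of_isReduced (L := L)

/-- One reduced local ring over a perfect extension suffices. -/
lemma isGeometricallyReduced_atPrime_of_perfectField {Ω : Type u} [Field Ω] [Algebra k Ω]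
    [PerfectField Ω] (P : Ideal (A ⊗[k] Ω)) [P.IsPrime]
    (hP : P.comap (algebraMap A (A ⊗[k] Ω)) = p) [_root_.IsReduced (Localization.AtPrime P)] :
    Algebra.IsGeometricallyReduced k (Localization.AtPrime p) :=
  isGeometricallyReduced_atPrime_of_tower p (L := perfectClosure k Ω) P hP

/-- Geometric reducedness spreads to a basic open neighbourhood, for a Noetherian ring. -/
lemma exists_basicOpen_isGeometricallyReduced [IsNoetherianRing A]
    [Algebra.IsGeometricallyReduced k (Localization.AtPrime p)] :
    ∃ a ∉ p, ∀ (q : Ideal A) [q.IsPrime], a ∉ q →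
      Algebra.IsGeometricallyReduced k (Localization.AtPrime q) := by
  obtain ⟨s, hs⟩ := IsNoetherian.noetherian (RingHom.ker (algebraMap A (Localization.AtPrime p)))
  have : ∀ x ∈ s, ∃ a : p.primeCompl, (a : A) * x = 0 := fun x hx ↦
    (IsLocalization.map_eq_zero_iff p.primeCompl (Localization.AtPrime p) x).mp
      (RingHom.mem_ker.mp (hs ▸ Ideal.subset_span hx))
  choose c hc using this
  refine ⟨∏ x ∈ s.attach, (c x.1 x.2 : A),
    show _ ∈ p.primeCompl from prod_mem fun x _ ↦ (c x.1 x.2).2, fun q _ hq ↦ ?_⟩
  set a := ∏ x ∈ s.attach, (c x.1 x.2 : A)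
  have ha : a ∈ p.primeCompl := prod_mem fun x _ ↦ (c x.1 x.2).2
  have hann : ∀ x ∈ RingHom.ker (algebraMap A (Localization.AtPrime p)), a * x = 0 := by
    intro x hx
    rw [← hs] at hx
    induction hx using Submodule.span_induction with
    | mem x hx =>
      obtain ⟨b, hb⟩ := Finset.dvd_prod_of_mem (fun y : {y // y ∈ s} ↦ (c y.1 y.2 : A))
        (Finset.mem_attach s ⟨x, hx⟩)
      rw [show a = (c x hx : A) * b from hb, mul_right_comm, hc x hx, zero_mul]
    | zero => simp
    | add x y _ _ hx hy => rw [mul_add, hx, hy, add_zero]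
    | smul r x _ hx => rw [smul_eq_mul, mul_left_comm, hx, mul_zero]
  let Aa := Localization.Away a
  let φ : Aa →ₐ[k] Localization.AtPrime p :=
    IsLocalization.liftAlgHom (M := Submonoid.powers a)
      (f := IsScalarTower.toAlgHom k A (Localization.AtPrime p))
      (fun ⟨_, n, hn⟩ ↦ by
        simp only [← hn, map_pow]
        exact (IsLocalization.map_units (Localization.AtPrime p) ⟨a, ha⟩).pow n)
  have hφ : Function.Injective φ := by
    rw [injective_iff_map_eq_zero]
    intro z hz
    obtain ⟨x, m, rfl⟩ := IsLocalization.exists_mk'_eq (Submonoid.powers a) z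
    have hx : x ∈ RingHom.ker (algebraMap A (Localization.AtPrime p)) := by
      have h1 : φ (algebraMap A Aa x) = algebraMap A (Localization.AtPrime p) x :=
        IsLocalization.lift_eq _ x
      rw [RingHom.mem_ker, ← h1, ← IsLocalization.mk'_spec Aa x m, map_mul, hz, zero_mul]
    rw [IsLocalization.mk'_eq_zero_iff]
    exact ⟨⟨a, Submonoid.mem_powers a⟩, hann x hx⟩
  have : Algebra.IsGeometricallyReduced k Aa := Algebra.IsGeometricallyReduced.of_injective φ hφ
  have hle : Submonoid.powers a ≤ q.primeCompl := Submonoid.powers_le.mpr hq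
  let := IsLocalization.localizationAlgebraOfSubmonoidLe Aa (Localization.AtPrime q) _ _ hle
  have := IsLocalization.localization_isScalarTower_of_submonoid_le Aa (Localization.AtPrime q) _ _ hle
  have := IsLocalization.isLocalization_of_submonoid_le Aa (Localization.AtPrime q) _ _ hle
  have : IsScalarTower k Aa (Localization.AtPrime q) := IsScalarTower.to₁₃₄ k A Aa _
  exact isGeometricallyReduced_of_isLocalization (A := Aa)
    (q.primeCompl.map (algebraMap A Aa)) _

end Groth.Agent.FBase.Point
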