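import Mathlib.RingTheory.Jacobson.Ring
import Mathlib.RingTheory.Nullstellensatz
import Mathlib.RingTheory.TensorProduct.Free
import Mathlib.RingTheory.Nilpotent.GeometricallyReduced
import Mathlib.RingTheory.Adjoin.FGBaseChange
import Mathlib.RingTheory.Unramified.Field
import Mathlib.FieldTheory.PerfectClosure
import Mathlib.RingTheory.Spectrum.Prime.Homeomorph
import Mathlib.FieldTheory.IsSepClosed

/-!
Tensor products over fields: domains / reducedness / irreducible spectra.
-/

namespace Groth.Agent.FBase.TensorAlgClosed

open TensorProduct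

variable {k : Type*} [Field k]

lemma exists_algHom_apply_ne_zero [IsAlgClosed k] {A : Type*} [CommRing A] [Algebra k A]
    [Algebra.FiniteType k A] {a : A} (ha : ¬ IsNilpotent a) : ∃ φ : A →ₐ[k] k, φ a ≠ 0 := by
  have : IsJacobsonRing A := isJacobsonRing_of_finiteType (A := k)
  have h : a ∉ Ideal.jacobson (⊥ : Ideal A) := by
    rw [← Ideal.radical_eq_jacobson]
    exact ha
  obtain ⟨m, ⟨-, hm⟩, ham⟩ : ∃ m : Ideal A, (⊥ ≤ m ∧ m.IsMaximal) ∧ a ∉ m := by
    simpa [Ideal.jacobson, Submodule.mem_sInf] using h
  let := Ideal.Quotient.field m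
  have : Module.Finite k (A ⧸ m) := finite_of_finite_type_of_isJacobsonRing k _
  let e : k ≃ₐ[k] A ⧸ m :=
    AlgEquiv.ofBijective (Algebra.ofId k (A ⧸ m)) IsAlgClosed.algebraMap_bijective_of_isIntegral
  refine ⟨e.symm.toAlgHom.comp (Ideal.Quotient.mkₐ k m), fun h0 ↦ ham ?_⟩
  simpa [Ideal.Quotient.eq_zero_iff_mem] using h0

/-- The coefficient of an element of `A ⊗ C` with respect to a basis of `C`,
transported along an algebra map `φ : A → B`. -/
lemma repr_map {A B C : Type*} [CommRing A] [Algebra k A] [CommRing B] [Algebra k B]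
    [CommRing C] [Algebra k C] {ι : Type*} (b : Module.Basis ι k C) (φ : A →ₐ[k] B) (z : A ⊗[k] C)
    (i : ι) :
    (Algebra.TensorProduct.basis B b).repr (Algebra.TensorProduct.map φ (AlgHom.id k C) z) i =
      φ ((Algebra.TensorProduct.basis A b).repr z i) := by
  induction z using TensorProduct.induction_on with
  | zero => simp
  | tmul x y => simp [Algebra.TensorProduct.basis_repr_tmul]
  | add x y hx hy => simp [map_add, hx, hy]

lemma exists_repr_ne_zero {A C : Type*} [CommRing A] [Algebra k A] [CommRing C] [Algebra k C]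
    {ι : Type*} (b : Module.Basis ι k C) {z : A ⊗[k] C} (hz : z ≠ 0) :
    ∃ i, (Algebra.TensorProduct.basis A b).repr z i ≠ 0 := by
  by_contra! h
  exact hz ((Algebra.TensorProduct.basis A b).repr.injective (by ext i; simp [h i]))

lemma map_eq_zero_iff_repr {A B C : Type*} [CommRing A] [Algebra k A] [CommRing B] [Algebra k B]
    [CommRing C] [Algebra k C] {ι : Type*} (b : Module.Basis ι k C) (φ : A →ₐ[k] B) (z : A ⊗[k] C) :
    Algebra.TensorProduct.map φ (AlgHom.id k C) z = 0 ↔
      ∀ i, φ ((Algebra.TensorProduct.basis A b).repr z i) = 0 := by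
  simp_rw [← repr_map b φ z]
  constructor
  · intro h i; simp [h]
  · intro h
    exact (Algebra.TensorProduct.basis B b).repr.injective (by ext i; simp [h i])

/-- If `A` is reduced and `C` stays reduced after tensoring with all residue fields of `A`, then
`A ⊗ C` is reduced. -/
lemma isReduced_tensor_of_forall_residueField {A C : Type*} [CommRing A] [Algebra k A]
    [IsReduced A] [CommRing C] [Algebra k C]
    (h : ∀ (p : Ideal A) [p.IsPrime], IsReduced (p.ResidueField ⊗[k] C)) :
    IsReduced (A ⊗[k] C) := by
  refine ⟨fun z hz ↦ ?_⟩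
  by_contra hne
  obtain ⟨i, hi⟩ := exists_repr_ne_zero (Module.Free.chooseBasis k C) hne
  obtain ⟨p, hp, hip⟩ : ∃ p : Ideal A, p.IsPrime ∧
      (Algebra.TensorProduct.basis A (Module.Free.chooseBasis k C)).repr z i ∉ p := by
    by_contra! hc
    exact hi (IsReduced.eq_zero _ (by rwa [nilpotent_iff_mem_prime]))
  have := h p
  let φ := IsScalarTower.toAlgHom k A p.ResidueField
  have h0 : Algebra.TensorProduct.map φ (AlgHom.id k C) z = 0 :=
    IsReduced.eq_zero _ (hz.map _)
  exact hip (Ideal.algebraMap_residueField_eq_zero.mp ((map_eq_zero_iff_repr _ φ z).mp h0 i))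

section AlgClosed

variable [IsAlgClosed k]

lemma isReduced_tensor_field_of_finiteType {A K : Type*} [CommRing A] [Algebra k A]
    [Algebra.FiniteType k A] [IsReduced A] [Field K] [Algebra k K] : IsReduced (A ⊗[k] K) := by
  refine ⟨fun z hz ↦ ?_⟩
  by_contra hne
  obtain ⟨i, hi⟩ := exists_repr_ne_zero (Module.Free.chooseBasis k K) hne
  obtain ⟨φ, hφ⟩ := exists_algHom_apply_ne_zero (k := k) (mt (IsReduced.eq_zero _) hi)
  have : IsReduced (k ⊗[k] K) :=
    isReduced_of_injective _ (Algebra.TensorProduct.lid k K).injective
  exact hφ ((map_eq_zero_iff_repr _ φ z).mp (IsReduced.eq_zero _ (hz.map _)) i)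

lemma noZeroDivisors_tensor_field_of_finiteType {A K : Type*} [CommRing A] [Algebra k A]
    [Algebra.FiniteType k A] [IsDomain A] [Field K] [Algebra k K] :
    NoZeroDivisors (A ⊗[k] K) := by
  refine ⟨fun {z w} hzw ↦ ?_⟩
  by_contra! hne
  obtain ⟨i, hi⟩ := exists_repr_ne_zero (Module.Free.chooseBasis k K) hne.1
  obtain ⟨j, hj⟩ := exists_repr_ne_zero (Module.Free.chooseBasis k K) hne.2
  obtain ⟨φ, hφ⟩ := exists_algHom_apply_ne_zero (k := k) (mt IsNilpotent.eq_zero (mul_ne_zero hi hj))
  rw [map_mul, mul_ne_zero_iff] at hφ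
  have : IsDomain (k ⊗[k] K) := (Algebra.TensorProduct.lid k K).toMulEquiv.isDomain K
  have h0 : Algebra.TensorProduct.map φ (AlgHom.id k K) z *
      Algebra.TensorProduct.map φ (AlgHom.id k K) w = 0 := by
    rw [← map_mul, hzw, map_zero]
  rcases mul_eq_zero.mp h0 with h | h
  · exact hφ.1 ((map_eq_zero_iff_repr _ φ z).mp h i)
  · exact hφ.2 ((map_eq_zero_iff_repr _ φ w).mp h j)

/-- Over an algebraically closed field, reduced ⊗ field is reduced. -/
lemma isReduced_tensor_field {A K : Type*} [CommRing A] [Algebra k A] [IsReduced A] [Field K]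
    [Algebra k K] : IsReduced (A ⊗[k] K) := by
  have : IsReduced (K ⊗[k] A) := by
    refine IsReduced.tensorProduct_of_flat_of_forall_fg fun B hB ↦ ?_
    have : Algebra.FiniteType k B := (Subalgebra.fg_iff_finiteType B).mp hB
    have : IsReduced B := isReduced_of_injective B.val Subtype.val_injective
    have : IsReduced (B ⊗[k] K) := isReduced_tensor_field_of_finiteType
    exact isReduced_of_injective _ (Algebra.TensorProduct.comm k K B).injective
  exact isReduced_of_injective _ (Algebra.TensorProduct.comm k A K).injective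

/-- Over an algebraically closed field, domain ⊗ field is a domain. -/
lemma isDomain_tensor_field {A K : Type*} [CommRing A] [Algebra k A] [IsDomain A] [Field K]
    [Algebra k K] : IsDomain (A ⊗[k] K) := by
  have : Nontrivial (K ⊗[k] A) :=
    Algebra.TensorProduct.includeRight_injective (A := K) (B := A) (RingHom.injective _) |>.nontrivial
  have : NoZeroDivisors (K ⊗[k] A) := by
    refine ⟨fun {z w} hzw ↦ ?_⟩
    obtain ⟨B₁, h₁, hz⟩ := exists_fg_and_mem_baseChange z
    obtain ⟨B₂, h₂, hw⟩ := exists_fg_and_mem_baseChange w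
    let B := B₁ ⊔ B₂
    have : Algebra.FiniteType k B := (Subalgebra.fg_iff_finiteType B).mp (h₁.sup h₂)
    have hinj : Function.Injective (Algebra.TensorProduct.map (AlgHom.id K K) B.val) :=
      Module.Flat.lTensor_preserves_injective_linearMap _ Subtype.val_injective
    have key : ∀ {B₀ : Subalgebra k A}, B₀ ≤ B → ∀ x ∈ B₀.baseChange K,
        ∃ y, Algebra.TensorProduct.map (AlgHom.id K K) B.val y = x := by
      intro B₀ h x hx
      obtain ⟨y, rfl⟩ := hx
      refine ⟨Algebra.TensorProduct.map (AlgHom.id K K) (Subalgebra.inclusion h) y, ?_⟩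
      induction y using TensorProduct.induction_on with
      | zero => simp
      | tmul a b => simp
      | add a b ha hb => simp_all
    obtain ⟨z', rfl⟩ := key le_sup_left z hz
    obtain ⟨w', rfl⟩ := key le_sup_right w hw
    have hzw' : z' * w' = 0 := hinj (by rw [map_mul, hzw, map_zero])
    have := noZeroDivisors_tensor_field_of_finiteType (k := k) (A := B) (K := K)
    have := (Algebra.TensorProduct.comm k K B).injective.noZeroDivisors
      (Algebra.TensorProduct.comm k K B) (map_zero _) (map_mul _)
    rcases mul_eq_zero.mp hzw' with h | h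
    · exact Or.inl (by rw [h, map_zero])
    · exact Or.inr (by rw [h, map_zero])
  have : IsDomain (K ⊗[k] A) := NoZeroDivisors.to_isDomain _
  exact (Algebra.TensorProduct.comm k A K).toMulEquiv.isDomain (K ⊗[k] A)

lemma isPrime_nilradical_tensor_field {A K : Type*} [CommRing A] [Algebra k A] [Field K]
    [Algebra k K] [hA : (nilradical A).IsPrime] : (nilradical (A ⊗[k] K)).IsPrime := by
  let φ := Algebra.TensorProduct.map (Ideal.Quotient.mkₐ k (nilradical A)) (AlgHom.id k K)
  have := isDomain_tensor_field (k := k) (A := A ⧸ nilradical A) (K := K)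
  have hker : RingHom.ker φ = nilradical (A ⊗[k] K) := by
    refine le_antisymm (fun z hz ↦ ?_) (fun z hz ↦ ?_)
    · let b := Module.Free.chooseBasis k K
      have hz' := (map_eq_zero_iff_repr b _ z).mp hz
      rw [← (Algebra.TensorProduct.basis A b).linearCombination_repr z,
        Finsupp.linearCombination_apply, Finsupp.sum]
      refine sum_mem fun i _ ↦ ?_
      rw [Algebra.smul_def]
      refine Ideal.mul_mem_right _ _ ?_
      have : IsNilpotent ((Algebra.TensorProduct.basis A b).repr z i) :=
        Ideal.Quotient.eq_zero_iff_mem.mp (hz' i)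
      exact this.map _
    · exact (IsNilpotent.map hz φ).eq_zero
  rw [← hker]
  exact RingHom.ker_isPrime _

end AlgClosed

section Extension

variable {A : Type*} [CommRing A] [Algebra k A] {K : Type*} [Field K] [Algebra k K]

lemma isReduced_tensor_of_isGeometricallyReduced [Algebra.IsGeometricallyReduced k A] :
    IsReduced (K ⊗[k] A) := by
  let i : AlgebraicClosure k →ₐ[k] AlgebraicClosure K := IsAlgClosed.lift
  algebraize [i.toRingHom]
  have : IsScalarTower k (AlgebraicClosure k) (AlgebraicClosure K) :=
    IsScalarTower.of_algHom i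
  have h1 : IsReduced (AlgebraicClosure k ⊗[k] A) :=
    (Algebra.isGeometricallyReduced_field_iff k A).mp ‹_›
  have h2 : IsReduced ((AlgebraicClosure k ⊗[k] A) ⊗[AlgebraicClosure k] AlgebraicClosure K) :=
    isReduced_tensor_field
  have h3 : IsReduced
      (AlgebraicClosure K ⊗[AlgebraicClosure k] (AlgebraicClosure k ⊗[k] A)) :=
    isReduced_of_injective _ (Algebra.TensorProduct.comm (AlgebraicClosure k) _ _).injective
  have h4 : IsReduced (AlgebraicClosure K ⊗[k] A) :=
    isReduced_of_injective _ (Algebra.TensorProduct.cancelBaseChange k (AlgebraicClosure k)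
      (AlgebraicClosure K) (AlgebraicClosure K) A).symm.injective
  exact isReduced_of_injective
    (Algebra.TensorProduct.map (IsScalarTower.toAlgHom k K (AlgebraicClosure K)) (AlgHom.id k A))
    (Module.Flat.rTensor_preserves_injective_linearMap _ (RingHom.injective _))

/-- Reduced ⊗ geometrically reduced is reduced. -/
lemma isReduced_tensor_of_isReduced_of_isGeometricallyReduced {C : Type*} [CommRing C]
    [Algebra k C] [Algebra.IsGeometricallyReduced k C] [IsReduced A] : IsReduced (A ⊗[k] C) :=
  isReduced_tensor_of_forall_residueField fun _ _ ↦ isReduced_tensor_of_isGeometricallyReduced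

/-- Over a perfect field, reduced implies geometrically reduced. -/
lemma isGeometricallyReduced_of_perfectField [PerfectField k] [IsReduced A] :
    Algebra.IsGeometricallyReduced k A := by
  rw [Algebra.isGeometricallyReduced_field_iff]
  suffices IsReduced (A ⊗[k] AlgebraicClosure k) from
    isReduced_of_injective _ (Algebra.TensorProduct.comm k (AlgebraicClosure k) A).injective
  refine IsReduced.tensorProduct_of_flat_of_forall_fg fun B hB ↦ ?_
  have : Algebra.FiniteType k B := (Subalgebra.fg_iff_finiteType B).mp hB
  have hBint : Algebra.IsIntegral k B :=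
    Algebra.IsIntegral.of_injective B.val Subtype.val_injective
  have : Module.Finite k B := Algebra.IsIntegral.finite
  let : Field B := (isField_of_isIntegral_of_isField' (R := k) (Field.toIsField k)).toField
  have : Algebra.IsSeparable k B := Algebra.IsAlgebraic.isSeparable_of_perfectField
  have : Algebra.FormallyUnramified k B := Algebra.FormallyUnramified.of_isSeparable k B
  refine isReduced_tensor_of_forall_residueField fun p hp ↦ ?_
  exact Algebra.FormallyUnramified.isReduced_of_field p.ResidueField _

end Extension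

section SepClosed

lemma isPrime_nilradical_of_injective {A B : Type*} [CommRing A] [CommRing B] (f : A →+* B)
    (hf : Function.Injective f) [hB : (nilradical B).IsPrime] : (nilradical A).IsPrime := by
  have h : nilradical A = (nilradical B).comap f := by
    ext x
    simp [mem_nilradical, IsNilpotent.map_iff hf]
  rw [h]
  infer_instance

lemma isPrime_nilradical_of_pow_mem_range {A B : Type*} [CommRing A] [CommRing B] (f : A →+* B)
    (hf : Function.Injective f) (hpow : ∀ x : B, ∃ n > 0, x ^ n ∈ f.range)
    [hA : (nilradical A).IsPrime] : (nilradical B).IsPrime := by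
  refine ⟨(Ideal.ne_top_iff_one _).mpr fun h ↦ hA.ne_top ((Ideal.eq_top_iff_one _).mpr ?_), fun {z w} hzw ↦ ?_⟩
  · rw [mem_nilradical] at h ⊢
    rwa [← IsNilpotent.map_iff hf, map_one]
  obtain ⟨n, hn, a, ha⟩ := hpow z
  obtain ⟨m, hm, b, hb⟩ := hpow w
  have hab : a ^ m * b ^ n ∈ nilradical A := by
    rw [mem_nilradical, ← IsNilpotent.map_iff hf, map_mul, map_pow, map_pow, ha, hb, ← pow_mul,
      ← pow_mul, mul_comm m n, ← mul_pow]
    rw [mem_nilradical] at hzw
    exact hzw.pow_of_pos (Nat.mul_pos hn hm).ne'
  rcases hA.mem_or_mem hab with h | h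
  · left
    have h' := (mem_nilradical.mp (hA.mem_of_pow_mem _ h)).map f
    rw [ha] at h'
    exact mem_nilradical.mpr (h'.of_pow)
  · right
    have h' := (mem_nilradical.mp (hA.mem_of_pow_mem _ h)).map f
    rw [hb] at h'
    exact mem_nilradical.mpr (h'.of_pow)

/-- Over a separably closed field, irreducible spectra stay irreducible. -/
lemma isPrime_nilradical_tensor_of_isSepClosed [IsSepClosed k] {A K : Type*} [CommRing A]
    [Algebra k A] [Field K] [Algebra k K] [(nilradical A).IsPrime] :
    (nilradical (A ⊗[k] K)).IsPrime := by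
  let i : AlgebraicClosure k →ₐ[k] AlgebraicClosure K := IsAlgClosed.lift
  algebraize [i.toRingHom]
  have : IsScalarTower k (AlgebraicClosure k) (AlgebraicClosure K) :=
    IsScalarTower.of_algHom i
  have : IsPurelyInseparable k (AlgebraicClosure k) := inferInstance
  have hinj : Function.Injective (algebraMap A (A ⊗[k] AlgebraicClosure k)) :=
    Algebra.TensorProduct.includeLeft_injective (S := A) (RingHom.injective _)
  have h1 : (nilradical (A ⊗[k] AlgebraicClosure k)).IsPrime :=
    isPrime_nilradical_of_pow_mem_range _ hinj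
      IsPurelyInseparable.exists_pow_mem_range_tensorProduct
  have h2 : (nilradical (AlgebraicClosure k ⊗[k] A)).IsPrime :=
    isPrime_nilradical_of_injective
      (Algebra.TensorProduct.comm k (AlgebraicClosure k) A).toRingHom
      (Algebra.TensorProduct.comm k (AlgebraicClosure k) A).injective
  have h3 : (nilradical
      ((AlgebraicClosure k ⊗[k] A) ⊗[AlgebraicClosure k] AlgebraicClosure K)).IsPrime :=
    isPrime_nilradical_tensor_field
  let e := ((Algebra.TensorProduct.cancelBaseChange k (AlgebraicClosure k) (AlgebraicClosure K)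
    (AlgebraicClosure K) A).symm.toRingEquiv.trans
    (Algebra.TensorProduct.comm (AlgebraicClosure k) _ _).toRingEquiv)
  have h4 : (nilradical (AlgebraicClosure K ⊗[k] A)).IsPrime :=
    isPrime_nilradical_of_injective e.toRingHom e.injective
  let j := (Algebra.TensorProduct.map (IsScalarTower.toAlgHom k K (AlgebraicClosure K))
    (AlgHom.id k A)).comp (Algebra.TensorProduct.comm k A K).toAlgHom
  exact isPrime_nilradical_of_injective j.toRingHom
    ((Module.Flat.rTensor_preserves_injective_linearMap _ (RingHom.injective _)).comp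
      (Algebra.TensorProduct.comm k A K).injective)

end SepClosed

end Groth.Agent.FBase.TensorAlgClosed
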