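import Groth.Agent.CAlgA.GeomTensor
import Mathlib.FieldTheory.IsSepClosed
import Mathlib.FieldTheory.PrimitiveElement
import Mathlib.Algebra.Polynomial.Lifts
import Mathlib.RingTheory.TensorProduct.Free
import Mathlib.FieldTheory.Minpoly.Field

/-!
Field extensions `κ/k` in which `k` is separably closed: `κ ⊗ K` has irreducible spectrum.
Primes of `κ ⊗ K` and embeddings of the separable closure of `k` in `κ`.
-/

universe u

open TensorProduct Polynomial
open Groth.Agent.FBase.TensorAlgClosed Groth.Agent.CAlgA.GeomTensor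

namespace Groth.Agent.FBase.SepClosed

variable {k κ : Type u} [Field k] [Field κ] [Algebra k κ]

/-- If `k` is separably closed in `κ`, separable minimal polynomials over `k` stay irreducible
over `κ`. -/
lemma minpoly_map_eq {E : Type u} [Field E] [IsAlgClosed E] [Algebra k E] [Algebra κ E]
    [IsScalarTower k κ E] (h : separableClosure k κ = ⊥) {x : E} (hx : IsSeparable k x) :
    (minpoly k x).map (algebraMap k κ) = minpoly κ x := by
  have hint : IsIntegral k x := hx.isIntegral
  have hint' : IsIntegral κ x := hint.tower_top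
  have hdvd := minpoly.dvd_map_of_isScalarTower k κ x
  let S : Subring E := (separableClosure k E).toSubalgebra.toSubring
  have hsplit : ((minpoly κ x).map (algebraMap κ E)).Splits :=
    IsAlgClosed.splits _
  have hcoeff : ∀ n, algebraMap κ E ((minpoly κ x).coeff n) ∈ S := by
    intro n
    rw [← coeff_map]
    rw [hsplit.eq_prod_roots_of_monic ((minpoly.monic hint').map _)]
    have : ∀ r ∈ ((minpoly κ x).map (algebraMap κ E)).roots, r ∈ S := by
      intro r hr
      rw [mem_roots_map (minpoly.ne_zero hint'), ← aeval_def] at hr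
      have h0 : aeval r ((minpoly k x).map (algebraMap k κ)) = 0 :=
        aeval_eq_zero_of_dvd_aeval_eq_zero hdvd hr
      rw [aeval_map_algebraMap] at h0
      exact mem_separableClosure_iff.mpr (hx.of_dvd (minpoly.dvd k r h0))
    have hlift : (((minpoly κ x).map (algebraMap κ E)).roots.map fun r ↦ X - C r).prod ∈
        lifts S.subtype := by
      refine Submonoid.multiset_prod_mem _ _ fun q hq ↦ ?_
      obtain ⟨r, hr, rfl⟩ := Multiset.mem_map.mp hq
      exact ⟨X - C ⟨r, this r hr⟩, by simp⟩
    obtain ⟨s, hs⟩ := (lifts_iff_coeff_lifts _).mp hlift n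
    exact hs ▸ s.2
  have hrange : ∀ n, (minpoly κ x).coeff n ∈ Set.range (algebraMap k κ) := by
    intro n
    have hmem : (minpoly κ x).coeff n ∈ separableClosure k κ :=
      (map_mem_separableClosure_iff (IsScalarTower.toAlgHom k κ E)).mp (hcoeff n)
    rw [h] at hmem
    exact IntermediateField.mem_bot.mp hmem
  obtain ⟨g, hg, hdeg, hmon⟩ :=
    lifts_and_degree_eq_and_monic ((lifts_iff_coeff_lifts _).mpr hrange) (minpoly.monic hint')
  have hgx : aeval x g = 0 := by rw [← aeval_map_algebraMap κ, hg, minpoly.aeval]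
  refine (Polynomial.eq_of_monic_of_associated ((minpoly.monic hint).map _) (minpoly.monic hint')
    (associated_of_dvd_dvd ?_ hdvd))
  rw [← hg]
  exact Polynomial.map_dvd (algebraMap k κ) (minpoly.dvd k x hgx)

/-- If `k` is separably closed in `κ` and `F/k` is finite separable, `F ⊗ κ` is a domain. -/
lemma isDomain_tensor_of_finite_separable (h : separableClosure k κ = ⊥) (F : Type u) [Field F]
    [Algebra k F] [FiniteDimensional k F] [Algebra.IsSeparable k F] : IsDomain (F ⊗[k] κ) := by
  let pb := Field.powerBasisOfFiniteOfSeparable k F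
  let i : F →ₐ[k] AlgebraicClosure κ := IsAlgClosed.lift
  let H : κ ⊗[k] F →ₐ[κ] AlgebraicClosure κ :=
    Algebra.TensorProduct.lift (Algebra.ofId κ _) i fun _ _ ↦ Commute.all _ _
  have hsep : IsSeparable k (i pb.gen) := by
    rw [IsSeparable, minpoly.algHom_eq i i.injective]
    exact Algebra.IsSeparable.isSeparable k pb.gen
  have hdeg : (minpoly κ (i pb.gen)).natDegree = pb.dim := by
    rw [← minpoly_map_eq h hsep, natDegree_map, minpoly.algHom_eq i i.injective,
      pb.natDegree_minpoly]
  have hinj : Function.Injective H := by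
    let b := Algebra.TensorProduct.basis κ pb.basis
    have hb : LinearIndependent κ (H.toLinearMap ∘ b) := by
      have := linearIndependent_pow (K := κ) (i pb.gen)
      rw [hdeg] at this
      convert! this using 1
      ext j
      simp [b, H, Algebra.TensorProduct.lift_tmul]
    intro z w hzw
    apply b.repr.injective
    have key : ∀ z, H z = Finsupp.linearCombination κ (H.toLinearMap ∘ b) (b.repr z) := by
      intro z
      conv_lhs => rw [← b.linearCombination_repr z]
      rw [Finsupp.linearCombination_apply, Finsupp.linearCombination_apply, Finsupp.sum,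
        Finsupp.sum, map_sum]
      exact Finset.sum_congr rfl fun a _ ↦ map_smul H _ _
    rw [key z, key w] at hzw
    exact hb hzw
  have : IsDomain (κ ⊗[k] F) := hinj.isDomain H.toRingHom
  exact (Algebra.TensorProduct.comm k F κ).toMulEquiv.isDomain _

/-- If `k` is separably closed in `κ`, then `κ ⊗ K` has irreducible spectrum for every `K`. -/
lemma isPrime_nilradical_tensor (h : separableClosure k κ = ⊥) (K : Type u) [Field K]
    [Algebra k K] : (nilradical (κ ⊗[k] K)).IsPrime := by
  let E := separableClosure k (AlgebraicClosure k)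
  have : IsSepClosed E := IsSepClosure.sep_closed k
  have : IsDomain (E ⊗[k] κ) := isDomain_of_finite fun F hF ↦
    have : Algebra.IsSeparable k F := Algebra.IsSeparable.of_algHom k E F.val
    isDomain_tensor_of_finite_separable h F
  have : (nilradical (E ⊗[k] κ)).IsPrime := by
    have : IsReduced (E ⊗[k] κ) := by convert! isReduced_of_isDomain (E ⊗[k] κ)
    rw [nilradical_eq_zero]
    exact Ideal.isPrime_bot
  have : (nilradical (AlgebraicClosure k ⊗[k] κ)).IsPrime :=
    isPrime_nilradical_of_sepClosed (E := E) (L := AlgebraicClosure k) (S := κ)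
  have := isPrime_nilradical_of_algebraicClosure (k := k) (S := κ) K
  exact isPrime_nilradical_of_injective (Algebra.TensorProduct.comm k κ K).toRingHom
    (Algebra.TensorProduct.comm k κ K).injective

lemma subsingleton_primeSpectrum_of_isIntegral {A : Type*} [CommRing A] [Algebra κ A]
    [Algebra.IsIntegral κ A] (hA : (nilradical A).IsPrime) : Subsingleton (PrimeSpectrum A) := by
  refine ⟨fun P Q ↦ ?_⟩
  have key : ∀ P : PrimeSpectrum A, P.asIdeal = nilradical A := fun P ↦ by
    refine le_antisymm (fun a ha ↦ ?_) (nilradical_le_prime _)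
    by_contra hn
    have hle : nilradical A ≤ P.asIdeal := nilradical_le_prime _
    have := Ideal.comap_lt_comap_of_integral_mem_sdiff (R := κ) hle ⟨ha, hn⟩
      (Algebra.IsIntegral.isIntegral a)
    have h1 : (nilradical A).comap (algebraMap κ A) = ⊥ :=
      (Ideal.eq_bot_or_top _).resolve_right (Ideal.comap_ne_top _ hA.ne_top)
    have h2 : P.asIdeal.comap (algebraMap κ A) = ⊥ :=
      (Ideal.eq_bot_or_top _).resolve_right (Ideal.comap_ne_top _ P.isPrime.ne_top)
    rw [h1, h2] at this
    exact lt_irrefl _ this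
  exact PrimeSpectrum.ext ((key P).trans (key Q).symm)

section Embeddings

variable {K : Type u} [Field K] [Algebra k K]

/-- `P` is a prime of `κ ⊗ K` on which the separable closure of `k` in `κ` maps by `φ`. -/
def Compatible (P : Ideal (κ ⊗[k] K)) (φ : separableClosure k κ →ₐ[k] K) : Prop :=
  ∀ a : separableClosure k κ, (a : κ) ⊗ₜ[k] (1 : K) - (1 : κ) ⊗ₜ[k] φ a ∈ P

lemma Compatible.eq {P : Ideal (κ ⊗[k] K)} [P.IsPrime] {φ ψ : separableClosure k κ →ₐ[k] K}
    (h : Compatible P φ) (h' : Compatible P ψ) : φ = ψ := by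
  ext a
  by_contra hne
  have hd : (1 : κ) ⊗ₜ[k] (φ a - ψ a) ∈ P := by
    have := sub_mem (h' a) (h a)
    rwa [sub_sub_sub_cancel_left, ← TensorProduct.tmul_sub] at this
  refine ‹P.IsPrime›.ne_top (Ideal.eq_top_of_isUnit_mem _ hd ?_)
  exact (sub_ne_zero.mpr hne).isUnit.map (Algebra.TensorProduct.includeRight (A := κ))

/-- Each prime is compatible with an embedding, when `K` splits the separable closure. -/
lemma exists_compatible (P : Ideal (κ ⊗[k] K)) [P.IsPrime]
    (hsplit : ∀ a : separableClosure k κ, ((minpoly k a).map (algebraMap k K)).Splits) :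
    ∃ φ : separableClosure k κ →ₐ[k] K, Compatible P φ := by
  let g : separableClosure k κ →ₐ[k] (κ ⊗[k] K) ⧸ P :=
    (Ideal.Quotient.mkₐ k P).comp
      (Algebra.TensorProduct.includeLeft.comp (separableClosure k κ).val)
  let j : K →ₐ[k] (κ ⊗[k] K) ⧸ P :=
    (Ideal.Quotient.mkₐ k P).comp Algebra.TensorProduct.includeRight
  have hg : ∀ a, g a ∈ j.range := by
    intro a
    have hint : IsIntegral k a := Algebra.IsIntegral.isIntegral a
    have h0 : aeval (g a) (minpoly k a) = 0 := by
      rw [aeval_algHom_apply, minpoly.aeval, map_zero]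
    have h1 : ((minpoly k a).map (algebraMap k K)).eval₂ j.toRingHom (g a) = 0 := by
      rw [eval₂_map, show j.toRingHom.comp (algebraMap k K) = algebraMap k _ from j.comp_algebraMap]
      exact h0
    rw [(hsplit a).eq_prod_roots_of_monic ((minpoly.monic hint).map _), ← coe_eval₂RingHom,
      map_multiset_prod, Multiset.map_map, Multiset.prod_eq_zero_iff, Multiset.mem_map] at h1
    obtain ⟨r, -, hr⟩ := h1
    simp only [Function.comp_apply, coe_eval₂RingHom, eval₂_sub, eval₂_X, eval₂_C,
      sub_eq_zero] at hr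
    exact ⟨r, hr.symm⟩
  let e : K ≃ₐ[k] j.range := AlgEquiv.ofInjective j j.injective
  refine ⟨(e.symm.toAlgHom).comp (g.codRestrict j.range hg), fun a ↦ ?_⟩
  rw [← Ideal.Quotient.eq]
  change g a = j (e.symm ⟨g a, hg a⟩)
  conv_lhs => rw [show g a = (e (e.symm ⟨g a, hg a⟩) : (κ ⊗[k] K) ⧸ P) by rw [e.apply_symm_apply]]
  rfl

/-- Over a fixed embedding of the separable closure there is exactly one prime. -/
lemma existsUnique_prime [Algebra.IsAlgebraic k K] (φ : separableClosure k κ →ₐ[k] K) :
    ∃! P : PrimeSpectrum (κ ⊗[k] K), Compatible P.asIdeal φ := by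
  algebraize [φ.toRingHom]
  have : IsScalarTower k (separableClosure k κ) K := IsScalarTower.of_algHom φ
  let q : κ ⊗[k] K →ₐ[k] κ ⊗[separableClosure k κ] K :=
    Algebra.TensorProduct.mapOfCompatibleSMul (separableClosure k κ) k k κ K
  have hq : ∀ (a : κ) (b : K), q (a ⊗ₜ b) = a ⊗ₜ b := fun a b ↦ rfl
  have : Algebra.IsAlgebraic (separableClosure k κ) K := Algebra.IsAlgebraic.tower_top (K := k) _
  have hp : (nilradical (κ ⊗[separableClosure k κ] K)).IsPrime :=
    isPrime_nilradical_tensor (separableClosure.separableClosure_eq_bot k κ) K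
  have : Subsingleton (PrimeSpectrum (κ ⊗[separableClosure k κ] K)) :=
    subsingleton_primeSpectrum_of_isIntegral (κ := κ) hp
  have hker : ∀ P : Ideal (κ ⊗[k] K), P.IsPrime → Compatible P φ →
      ∃ Q : PrimeSpectrum (κ ⊗[separableClosure k κ] K), Q.asIdeal.comap q = P := by
    intro P hP hc
    let jl : κ →ₐ[k] (κ ⊗[k] K) ⧸ P :=
      (Ideal.Quotient.mkₐ k P).comp Algebra.TensorProduct.includeLeft
    let jr : K →ₐ[k] (κ ⊗[k] K) ⧸ P :=
      (Ideal.Quotient.mkₐ k P).comp Algebra.TensorProduct.includeRight
    let fl : κ →ₐ[separableClosure k κ] (κ ⊗[k] K) ⧸ P :=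
      { jl.toRingHom with commutes' := fun a ↦ rfl }
    let fr : K →ₐ[separableClosure k κ] (κ ⊗[k] K) ⧸ P :=
      { jr.toRingHom with commutes' := fun a ↦ (Ideal.Quotient.eq.mpr (hc a)).symm }
    let m := Algebra.TensorProduct.lift fl fr fun _ _ ↦ Commute.all _ _
    refine ⟨⟨RingHom.ker m, RingHom.ker_isPrime _⟩, ?_⟩
    have key : ∀ z, m (q z) = Ideal.Quotient.mk P z := by
      intro z
      induction z using TensorProduct.induction_on with
      | zero => simp
      | tmul a b =>
        rw [hq]
        simp only [m, Algebra.TensorProduct.lift_tmul, fl, fr, jl, jr]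
        exact (map_mul (Ideal.Quotient.mk P) _ _).symm.trans (by simp)
      | add z w hz hw => simp [map_add, hz, hw]
    ext z
    rw [Ideal.mem_comap, RingHom.mem_ker, key, Ideal.Quotient.eq_zero_iff_mem]
  refine ⟨⟨(nilradical (κ ⊗[separableClosure k κ] K)).comap q, inferInstance⟩, fun a ↦ ?_,
    fun P hP ↦ ?_⟩
  · rw [Ideal.mem_comap, map_sub, hq, hq]
    have : ((a : κ) ⊗ₜ[separableClosure k κ] (1 : K)) = (1 : κ) ⊗ₜ[separableClosure k κ] φ a := by
      rw [show ((a : κ)) = a • (1 : κ) by rw [Algebra.smul_def, mul_one]; rfl,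
        TensorProduct.smul_tmul, Algebra.smul_def, mul_one]
      rfl
    rw [this, sub_self]
    exact zero_mem _
  · obtain ⟨Q, hQ⟩ := hker P.asIdeal P.isPrime hP
    apply PrimeSpectrum.ext
    rw [← hQ, Subsingleton.elim Q ⟨_, hp⟩]

end Embeddings

end Groth.Agent.FBase.SepClosed
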