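import Groth.Agent.DomMod.Basic
import Groth.Agent.VarDim.Algebra
import Mathlib.RingTheory.TensorProduct.MvPolynomial
import Mathlib.RingTheory.KrullDimension.Polynomial
import Mathlib.RingTheory.FiniteStability
import Mathlib.RingTheory.Ideal.MinimalPrime.Noetherian
import Mathlib.RingTheory.Flat.FaithfullyFlat.Algebra

/-!
Dimension of the components of `Spec (A ⊗ B)` over a field.
-/

universe u

open TensorProduct

namespace Groth.Agent.FBase.DimAlg

variable {k : Type u} [Field k]

section Coord

variable {m l : ℕ} {R S : Type u} [CommRing R] [CommRing S] [Algebra k R] [Algebra k S]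

lemma eq_zero_of_coord (w : (Fin m → R) ⊗[k] (Fin l → S))
    (h : ∀ i j, TensorProduct.map (LinearMap.proj (R := k) (φ := fun _ : Fin m ↦ R) i)
      (LinearMap.proj (R := k) (φ := fun _ : Fin l ↦ S) j) w = 0) : w = 0 := by
  classical
  have key : w = ∑ i, ∑ j, TensorProduct.map (LinearMap.single k (fun _ : Fin m ↦ R) i)
      (LinearMap.single k (fun _ : Fin l ↦ S) j)
      (TensorProduct.map (LinearMap.proj (R := k) (φ := fun _ : Fin m ↦ R) i)
        (LinearMap.proj (R := k) (φ := fun _ : Fin l ↦ S) j) w) := by
    clear h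
    induction w using TensorProduct.induction_on with
    | zero => simp
    | tmul a b =>
      simp only [TensorProduct.map_tmul, LinearMap.proj_apply, LinearMap.coe_single]
      simp_rw [← TensorProduct.tmul_sum, ← TensorProduct.sum_tmul, Finset.univ_sum_single]
    | add a b ha hb =>
      simp only [map_add, Finset.sum_add_distrib]
      rw [← ha, ← hb]
  rw [key]
  simp [h]

end Coord

section Main

variable {R S A B : Type u} [CommRing R] [IsDomain R] [CommRing S] [IsDomain S] [CommRing A]
  [CommRing B] [Algebra k R] [Algebra k S] [Algebra k A] [Algebra k B] [Algebra R A] [Algebra S B]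
  [IsScalarTower k R A] [IsScalarTower k S B] [Module.Finite R A] [Module.Finite S B]
  [Module.IsTorsionFree R A] [Module.IsTorsionFree S B]

variable (k R S A B) in
/-- `R ⊗ S → A ⊗ B`. -/
noncomputable abbrev baseMap : R ⊗[k] S →ₐ[k] A ⊗[k] B :=
  Algebra.TensorProduct.map (IsScalarTower.toAlgHom k R A) (IsScalarTower.toAlgHom k S B)

lemma baseMap_mul_eq_zero [IsDomain (R ⊗[k] S)] {c : R ⊗[k] S} (hc : c ≠ 0) {z : A ⊗[k] B}
    (hz : baseMap k R S A B c * z = 0) : z = 0 := by
  obtain ⟨m, h, hh⟩ := DomMod.exists_injective_of_isTorsionFree R A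
  obtain ⟨l, h', hh'⟩ := DomMod.exists_injective_of_isTorsionFree S B
  let ι := TensorProduct.map (h.restrictScalars k) (h'.restrictScalars k)
  have hι : Function.Injective ι := by
    have h1 : Function.Injective ((h.restrictScalars k).rTensor (Fin l → S)) :=
      Module.Flat.rTensor_preserves_injective_linearMap (M := Fin l → S) (h.restrictScalars k) hh
    have h2 : Function.Injective ((h'.restrictScalars k).lTensor A) :=
      Module.Flat.lTensor_preserves_injective_linearMap (M := A) (h'.restrictScalars k) hh'
    change Function.Injective ⇑(TensorProduct.map (h.restrictScalars k) (h'.restrictScalars k))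
    rw [← LinearMap.rTensor_comp_lTensor]
    exact h1.comp h2
  refine hι ?_
  rw [map_zero]
  refine eq_zero_of_coord _ fun i j ↦ ?_
  let g : A ⊗[k] B →ₗ[k] R ⊗[k] S := (TensorProduct.map
      (LinearMap.proj (R := k) (φ := fun _ : Fin m ↦ R) i)
      (LinearMap.proj (R := k) (φ := fun _ : Fin l ↦ S) j)).comp ι
  have hg : ∀ (c : R ⊗[k] S) (z : A ⊗[k] B), g (baseMap k R S A B c * z) = c * g z := by
    intro c z
    induction c using TensorProduct.induction_on with
    | zero => simp
    | tmul r s =>
      induction z using TensorProduct.induction_on with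
      | zero => simp
      | tmul a b =>
        simp only [baseMap, Algebra.TensorProduct.map_tmul, Algebra.TensorProduct.tmul_mul_tmul,
          IsScalarTower.coe_toAlgHom', g, ι, LinearMap.comp_apply, TensorProduct.map_tmul,
          LinearMap.coe_restrictScalars, LinearMap.proj_apply, ← Algebra.smul_def, map_smul,
          Pi.smul_apply, smul_eq_mul]
      | add a b ha hb => rw [mul_add, map_add, map_add, ha, hb, mul_add]
    | add a b ha hb => rw [map_add, add_mul, map_add, ha, hb, add_mul]
  have h1 := hg c z
  rw [hz, map_zero] at h1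
  exact (mul_eq_zero.mp h1.symm).resolve_left hc

omit [IsDomain R] [IsDomain S] [Module.IsTorsionFree R A] [Module.IsTorsionFree S B] in
lemma isIntegral_baseMap : (baseMap k R S A B).toRingHom.IsIntegral := by
  intro z
  induction z using TensorProduct.induction_on with
  | zero => exact RingHom.isIntegralElem_zero _
  | tmul a b =>
    have h1 : (baseMap k R S A B).toRingHom.IsIntegralElem (a ⊗ₜ[k] (1 : B)) := by
      obtain ⟨P, hP, hPa⟩ := Algebra.IsIntegral.isIntegral (R := R) a
      refine ⟨P.map Algebra.TensorProduct.includeLeftRingHom, hP.map _, ?_⟩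
      have hcomp : (baseMap k R S A B).toRingHom.comp Algebra.TensorProduct.includeLeftRingHom =
          (Algebra.TensorProduct.includeLeftRingHom : A →+* A ⊗[k] B).comp (algebraMap R A) := by
        ext e
        simp [baseMap]
      rw [Polynomial.eval₂_map, hcomp,
        show a ⊗ₜ[k] (1 : B) = (Algebra.TensorProduct.includeLeftRingHom : A →+* A ⊗[k] B) a from rfl,
        ← Polynomial.hom_eval₂, hPa, map_zero]
    have h2 : (baseMap k R S A B).toRingHom.IsIntegralElem ((1 : A) ⊗ₜ[k] b) := by
      obtain ⟨P, hP, hPa⟩ := Algebra.IsIntegral.isIntegral (R := S) b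
      refine ⟨P.map (Algebra.TensorProduct.includeRight (R := k) (A := R)).toRingHom, hP.map _, ?_⟩
      have hcomp : (baseMap k R S A B).toRingHom.comp
            (Algebra.TensorProduct.includeRight (R := k) (A := R)).toRingHom =
          (Algebra.TensorProduct.includeRight (R := k) (A := A)).toRingHom.comp (algebraMap S B) := by
        ext e
        simp [baseMap]
      rw [Polynomial.eval₂_map, hcomp, show (1 : A) ⊗ₜ[k] b =
          (Algebra.TensorProduct.includeRight (R := k) (A := A)).toRingHom b from rfl,
        ← Polynomial.hom_eval₂, hPa, map_zero]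
    have := RingHom.IsIntegralElem.mul _ h1 h2
    rwa [Algebra.TensorProduct.tmul_mul_tmul, mul_one, one_mul] at this
  | add a b ha hb => exact RingHom.IsIntegralElem.add _ ha hb

theorem ringKrullDim_quotient_minimalPrime [IsDomain (R ⊗[k] S)] [IsNoetherianRing (A ⊗[k] B)]
    {P : Ideal (A ⊗[k] B)} (hP : P ∈ minimalPrimes (A ⊗[k] B)) :
    ringKrullDim ((A ⊗[k] B) ⧸ P) = ringKrullDim (R ⊗[k] S) := by
  have := hP.1.1
  let ψ := (Ideal.Quotient.mk P).comp (baseMap k R S A B).toRingHom
  let : Algebra (R ⊗[k] S) ((A ⊗[k] B) ⧸ P) := ψ.toAlgebra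
  have : Algebra.IsIntegral (R ⊗[k] S) ((A ⊗[k] B) ⧸ P) :=
    ⟨RingHom.IsIntegral.trans _ _ (isIntegral_baseMap (k := k) (R := R) (S := S) (A := A) (B := B))
      (RingHom.isIntegral_of_surjective _ Ideal.Quotient.mk_surjective)⟩
  have : FaithfulSMul (R ⊗[k] S) ((A ⊗[k] B) ⧸ P) := by
    rw [faithfulSMul_iff_algebraMap_injective, RingHom.algebraMap_toAlgebra, injective_iff_map_eq_zero]
    intro c hc
    by_contra hc0
    have hmem : baseMap k R S A B c ∈ P := Ideal.Quotient.eq_zero_iff_mem.mp hc
    have hnzd : baseMap k R S A B c ∈ nonZeroDivisors (A ⊗[k] B) :=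
      mem_nonZeroDivisors_iff_right.mpr fun z hz ↦ baseMap_mul_eq_zero hc0 (by rw [mul_comm]; exact hz)
    exact Set.disjoint_left.mp (Ideal.disjoint_nonZeroDivisors_of_mem_minimalPrimes hP) hmem hnzd
  exact VarDim.ringKrullDim_eq_of_isIntegral

end Main

section Poly

variable {S : Type u} [CommRing S] [IsDomain S] [IsNoetherianRing S] [Algebra k S] (s : ℕ)

variable (S) in
omit [IsNoetherianRing S] in
lemma isDomain_poly_tensor : IsDomain (MvPolynomial (Fin s) k ⊗[k] S) :=
  ((Algebra.TensorProduct.comm k (MvPolynomial (Fin s) k) S).trans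
    ((MvPolynomial.scalarRTensorAlgEquiv (R := k) (N := S) (σ := Fin s)).restrictScalars k)).toMulEquiv.isDomain _

variable (S) in
omit [IsDomain S] in
lemma ringKrullDim_poly_tensor :
    ringKrullDim (MvPolynomial (Fin s) k ⊗[k] S) = ringKrullDim S + s := by
  rw [RingEquiv.ringKrullDim ((Algebra.TensorProduct.comm k (MvPolynomial (Fin s) k) S).trans
    ((MvPolynomial.scalarRTensorAlgEquiv (R := k) (N := S) (σ := Fin s)).restrictScalars k)).toRingEquiv,
    MvPolynomial.ringKrullDim_of_isNoetherianRing]
  simp

end Poly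

variable (A : Type u) [CommRing A] [IsDomain A] [Algebra k A] [Algebra.FiniteType k A]

/-- Components of `A ⊗ K` have the dimension of `A`. -/
theorem ringKrullDim_baseChange_component (K : Type u) [Field K] [Algebra k K]
    {P : Ideal (A ⊗[k] K)} (hP : P ∈ minimalPrimes (A ⊗[k] K)) :
    ringKrullDim ((A ⊗[k] K) ⧸ P) = ringKrullDim A := by
  obtain ⟨s, g, hg, hfin⟩ := VarDim.exists_noether (A := A) k
  algebraize [g.toRingHom]
  have : IsScalarTower k (MvPolynomial (Fin s) k) A := IsScalarTower.of_algHom g
  have : FaithfulSMul (MvPolynomial (Fin s) k) A :=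
    (faithfulSMul_iff_algebraMap_injective _ _).mpr hg
  have : Module.Finite (MvPolynomial (Fin s) k) A := hfin
  have := isDomain_poly_tensor (k := k) K s
  have : IsNoetherianRing (A ⊗[k] K) :=
    have := Algebra.FiniteType.isNoetherianRing K (K ⊗[k] A)
    isNoetherianRing_of_ringEquiv _ (Algebra.TensorProduct.comm k K A).toRingEquiv
  rw [ringKrullDim_quotient_minimalPrime (R := MvPolynomial (Fin s) k) (S := K) hP,
    ringKrullDim_poly_tensor K s, VarDim.ringKrullDim_eq_of_isIntegral (R := MvPolynomial (Fin s) k)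
      (S := A), MvPolynomial.ringKrullDim_of_isNoetherianRing, ringKrullDim_eq_zero_of_field,
    ringKrullDim_eq_zero_of_field]
  simp

/-- Components of `A ⊗ B` have the sum of the dimensions. -/
theorem ringKrullDim_product_component (B : Type u) [CommRing B] [IsDomain B] [Algebra k B]
    [Algebra.FiniteType k B] {P : Ideal (A ⊗[k] B)} (hP : P ∈ minimalPrimes (A ⊗[k] B)) :
    ringKrullDim ((A ⊗[k] B) ⧸ P) = ringKrullDim A + ringKrullDim B := by
  obtain ⟨s, g, hg, hfin⟩ := VarDim.exists_noether (A := A) k
  obtain ⟨t, g', hg', hfin'⟩ := VarDim.exists_noether (A := B) k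
  algebraize [g.toRingHom, g'.toRingHom]
  have : IsScalarTower k (MvPolynomial (Fin s) k) A := IsScalarTower.of_algHom g
  have : IsScalarTower k (MvPolynomial (Fin t) k) B := IsScalarTower.of_algHom g'
  have : FaithfulSMul (MvPolynomial (Fin s) k) A :=
    (faithfulSMul_iff_algebraMap_injective _ _).mpr hg
  have : FaithfulSMul (MvPolynomial (Fin t) k) B :=
    (faithfulSMul_iff_algebraMap_injective _ _).mpr hg'
  have : Module.Finite (MvPolynomial (Fin s) k) A := hfin
  have : Module.Finite (MvPolynomial (Fin t) k) B := hfin'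
  have := isDomain_poly_tensor (k := k) (MvPolynomial (Fin t) k) s
  have : IsNoetherianRing (A ⊗[k] B) := by
    have : IsNoetherianRing B := Algebra.FiniteType.isNoetherianRing k B
    have := Algebra.FiniteType.isNoetherianRing B (B ⊗[k] A)
    exact isNoetherianRing_of_ringEquiv _ (Algebra.TensorProduct.comm k B A).toRingEquiv
  rw [ringKrullDim_quotient_minimalPrime (R := MvPolynomial (Fin s) k)
      (S := MvPolynomial (Fin t) k) hP,
    ringKrullDim_poly_tensor (MvPolynomial (Fin t) k) s,
    VarDim.ringKrullDim_eq_of_isIntegral (R := MvPolynomial (Fin s) k) (S := A),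
    VarDim.ringKrullDim_eq_of_isIntegral (R := MvPolynomial (Fin t) k) (S := B),
    MvPolynomial.ringKrullDim_of_isNoetherianRing, MvPolynomial.ringKrullDim_of_isNoetherianRing,
    ringKrullDim_eq_zero_of_field]
  simp only [zero_add]
  rw [Nat.card_fin, Nat.card_fin, add_comm]

end Groth.Agent.FBase.DimAlg
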