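import Groth.Prelude.Def_FDesc
import Groth.Agent.FBase.Point
import Groth.Agent.FBase.BC2

/-!
Local rings of base changes of schemes over a field, at points.
-/

universe u

open CategoryTheory Limits AlgebraicGeometry TensorProduct
open Groth.Agent.FBase.BC

namespace Groth.Agent.FBase.PointScheme

variable {k : Type u} [Field k]

/-- The stalk of `Spec R` is the localization. -/
noncomputable def specStalkEquiv (R : Type u) [CommRing R] (P : PrimeSpectrum R) :
    ((Spec (CommRingCat.of R)).presheaf.stalk P) ≃+* Localization.AtPrime P.asIdeal :=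
  letI : Algebra R ((Spec (CommRingCat.of R)).presheaf.stalk P) :=
    StructureSheaf.stalkAlgebra R P
  haveI : IsLocalization.AtPrime ((Spec (CommRingCat.of R)).presheaf.stalk P) P.asIdeal :=
    StructureSheaf.IsLocalization.to_stalk R P
  (IsLocalization.algEquiv P.asIdeal.primeCompl ((Spec (CommRingCat.of R)).presheaf.stalk P)
    (Localization.AtPrime P.asIdeal)).toRingEquiv

/-- The stalk at the image of an open immersion. -/
noncomputable def openStalkEquiv {U X : Scheme.{u}} (j : U ⟶ X) [IsOpenImmersion j] (u : U) :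
    X.presheaf.stalk (j u) ≃+* U.presheaf.stalk u :=
  (asIso (j.stalkMap u)).commRingCatIsoToRingEquiv

/-- The stalk at a point of an affine chart. -/
noncomputable def chartStalkEquiv {X : Scheme.{u}} {R : Type u} [CommRing R]
    (j : Spec (CommRingCat.of R) ⟶ X) [IsOpenImmersion j] (P : PrimeSpectrum R) :
    X.presheaf.stalk (j P) ≃+* Localization.AtPrime P.asIdeal :=
  (openStalkEquiv j P).trans (specStalkEquiv R P)

/-- An affine chart over the base field around a point. -/
lemma exists_chart {X : Scheme.{u}} (f : X ⟶ Spec (CommRingCat.of k)) (x : X) :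
    ∃ (A : Type u) (_ : CommRing A) (_ : Algebra k A) (j : Spec (CommRingCat.of A) ⟶ X)
      (p : PrimeSpectrum A), IsOpenImmersion j ∧ j p = x ∧
        j ≫ f = Spec.map (CommRingCat.ofHom (algebraMap k A)) := by
  obtain ⟨p, hp⟩ := X.affineCover.covers x
  obtain ⟨φ, hφ⟩ := Spec.map_surjective (X.affineCover.f (X.affineCover.idx x) ≫ f)
  exact ⟨_, _, φ.hom.toAlgebra, X.affineCover.f (X.affineCover.idx x), p,
    X.affineCover.map_prop _, hp, hφ.symm⟩

variable {X : Scheme.{u}} (f : X ⟶ Spec (CommRingCat.of k)) {A : Type u} [CommRing A] [Algebra k A]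
  (j : Spec (CommRingCat.of A) ⟶ X) (K : Type u) [Field K] [Algebra k K]

/-- The chart `Spec (A ⊗ K) → X ⊗ K`. -/
noncomputable def bcChart (hj : j ≫ f = Spec.map (CommRingCat.ofHom (algebraMap k A))) :
    Spec (CommRingCat.of (A ⊗[k] K)) ⟶ pullback f (specMap k K) :=
  (pullbackSpecIso k A K).inv ≫
    pullback.map _ _ _ _ j (𝟙 _) (𝟙 _) (by rw [hj, Category.comp_id]) (by simp)

variable (hj : j ≫ f = Spec.map (CommRingCat.ofHom (algebraMap k A)))

lemma bcChart_fst : bcChart f j K hj ≫ pullback.fst f (specMap k K) =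
    Spec.map (CommRingCat.ofHom (algebraMap A (A ⊗[k] K))) ≫ j := by
  unfold bcChart pullback.map
  rw [Category.assoc, pullback.lift_fst, ← Category.assoc]
  exact congrArg (· ≫ j) (pullbackSpecIso_inv_fst' k A K)

instance isOpenImmersion_bcChart [IsOpenImmersion j] : IsOpenImmersion (bcChart f j K hj) := by
  unfold bcChart
  infer_instance

lemma range_bcChart [IsOpenImmersion j] :
    Set.range (bcChart f j K hj) = pullback.fst f (specMap k K) ⁻¹' Set.range j := by
  unfold bcChart
  simp only [Scheme.Hom.comp_base, TopCat.coe_comp]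
  have hs : Function.Surjective (pullbackSpecIso k A K).inv :=
    (Scheme.Hom.homeomorph (pullbackSpecIso k A K).inv).surjective
  rw [Set.range_comp, hs.range_eq, Set.image_univ]
  refine subset_antisymm ?_ fun z hz ↦ ?_
  · refine (Scheme.Pullback.range_map ..).le.trans ?_
    exact Set.inter_subset_left
  · refine (Scheme.Pullback.range_map ..).ge ⟨hz, pullback.snd f (specMap k K) z, ?_⟩
    simp

/-- Points above a chart point are primes of the tensor product above it, with the same local
rings. -/
lemma exists_prime_of_point [IsOpenImmersion j] (p : PrimeSpectrum A)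
    (x' : ↥(pullback f (specMap k K))) (hx' : pullback.fst f (specMap k K) x' = j p) :
    ∃ (P : PrimeSpectrum (A ⊗[k] K)), P.asIdeal.comap (algebraMap A (A ⊗[k] K)) = p.asIdeal ∧
      bcChart f j K hj P = x' ∧
      Nonempty ((pullback f (specMap k K)).presheaf.stalk x' ≃+* Localization.AtPrime P.asIdeal) := by
  obtain ⟨P, rfl⟩ : x' ∈ Set.range (bcChart f j K hj) := by
    rw [range_bcChart]
    exact ⟨p, hx'.symm⟩
  refine ⟨P, ?_, rfl, ⟨chartStalkEquiv (bcChart f j K hj) P⟩⟩
  rw [← Scheme.Hom.comp_apply, bcChart_fst, Scheme.Hom.comp_apply] at hx'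
  exact congrArg PrimeSpectrum.asIdeal (j.isOpenEmbedding.injective hx')

lemma bcChart_fst_apply (p : PrimeSpectrum A) (P : PrimeSpectrum (A ⊗[k] K))
    (hP : P.asIdeal.comap (algebraMap A (A ⊗[k] K)) = p.asIdeal) :
    pullback.fst f (specMap k K) (bcChart f j K hj P) = j p := by
  refine (Scheme.Hom.comp_apply _ _ _).symm.trans ?_
  rw [bcChart_fst]
  refine (Scheme.Hom.comp_apply _ _ _).trans ?_
  exact congrArg j (PrimeSpectrum.ext hP)

include hj in
/-- A stalkwise property of all points over `j p` in all extensions, read on the chart. -/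
lemma forall_point_iff [IsOpenImmersion j] (p : PrimeSpectrum A)
    (Q : ∀ (R : Type u) [CommRing R], Prop)
    (hQ : ∀ (R S : Type u) [CommRing R] [CommRing S], (R ≃+* S) → Q R → Q S) :
    (∀ (K : Type u) [Field K] [Algebra k K] (x' : ↥(FBase.bc f K)),
        (FBase.bcπ f K).base x' = j p → Q ((FBase.bc f K).presheaf.stalk x')) ↔
      ∀ (K : Type u) [Field K] [Algebra k K] (P : Ideal (A ⊗[k] K)) [P.IsPrime],
        P.comap (algebraMap A (A ⊗[k] K)) = p.asIdeal → Q (Localization.AtPrime P) := by
  constructor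
  · intro h K _ _ P hP hPp
    have := h K (bcChart f j K hj ⟨P, hP⟩) (bcChart_fst_apply f j K hj p ⟨P, hP⟩ hPp)
    exact hQ _ _ (chartStalkEquiv (bcChart f j K hj) ⟨P, hP⟩) this
  · intro h K _ _ x' hx'
    obtain ⟨P, hP, -, ⟨e⟩⟩ := exists_prime_of_point f j K hj p x' hx'
    exact hQ _ _ e.symm (h K P.asIdeal hP)

include hj in
lemma isGeomReducedAt_iff [IsOpenImmersion j] (p : PrimeSpectrum A) :
    FBase.IsGeomReducedAt f (j p) ↔
      Algebra.IsGeometricallyReduced k (Localization.AtPrime p.asIdeal) := by
  refine (forall_point_iff f j hj p (fun R _ ↦ _root_.IsReduced R)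
    fun R S _ _ e _ ↦ isReduced_of_injective e.symm e.symm.injective).trans ⟨fun h ↦ ?_, ?_⟩
  · exact Point.isGeometricallyReduced_atPrime_of_forall p.asIdeal fun P _ hP ↦
      h (AlgebraicClosure k) P hP
  · intro _ K _ _ P _ hP
    exact Point.isReduced_localization_of_isGeometricallyReduced p.asIdeal P hP

end Groth.Agent.FBase.PointScheme
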