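import Groth.Agent.CAlgA.GeomTensor
import Mathlib.FieldTheory.PurelyInseparable.PerfectClosure
import Mathlib.RingTheory.TensorProduct.Quotient
import Mathlib.RingTheory.EssentialFiniteness
import Mathlib.RingTheory.FiniteType

/-!
After a finite purely inseparable extension, the reduction becomes geometrically reduced.
-/

universe u

open TensorProduct
open Groth.Agent.FBase.TensorAlgClosed Groth.Agent.CAlgA.GeomTensor

namespace Groth.Agent.FBase.PerfectReduced

variable {k : Type u} [Field k] (A : Type u) [CommRing A] [Algebra k A]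

lemma isGeometricallyReduced_of_perfect (F P : Type u) [Field F] [Field P] [Algebra F P]
    [Algebra.IsAlgebraic F P] [PerfectField P] {B : Type u} [CommRing B] [Algebra F B]
    (h : IsReduced (P ⊗[F] B)) : Algebra.IsGeometricallyReduced F B := by
  have : Algebra.IsGeometricallyReduced P (P ⊗[F] B) := isGeometricallyReduced_of_perfectField
  rw [Algebra.isGeometricallyReduced_field_iff]
  let i : P →ₐ[F] AlgebraicClosure F := IsAlgClosed.lift
  let : Algebra P (AlgebraicClosure F) := i.toRingHom.toAlgebra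
  have : IsScalarTower F P (AlgebraicClosure F) := IsScalarTower.of_algHom i
  have : IsReduced (AlgebraicClosure F ⊗[P] (P ⊗[F] B)) :=
    isReduced_tensor_of_isGeometricallyReduced
  exact isReduced_of_injective
    (Algebra.TensorProduct.cancelBaseChange F P (AlgebraicClosure F) (AlgebraicClosure F) B).symm
    (AlgEquiv.injective _)

lemma isGeometricallyReduced_of_generators (F P : Type u) [Field F] [Field P] [Algebra k F]
    [Algebra k P] [Algebra F P] [IsScalarTower k F P] [Algebra.IsAlgebraic F P] [PerfectField P]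
    (s : Set (P ⊗[k] A)) (hs : Submodule.span (P ⊗[k] A) s = nilradical (P ⊗[k] A))
    (hsub : s ⊆ Set.range (Algebra.TensorProduct.map (IsScalarTower.toAlgHom k F P) (AlgHom.id k A))) :
    Algebra.IsGeometricallyReduced F ((F ⊗[k] A) ⧸ nilradical (F ⊗[k] A)) := by
  let R := (P ⊗[k] A) ⧸ nilradical (P ⊗[k] A)
  let φ : F ⊗[k] A →ₐ[F] P ⊗[k] A :=
    Algebra.TensorProduct.map (Algebra.ofId F P) (AlgHom.id k A)
  have hφ : ∀ z, φ z = Algebra.TensorProduct.map (IsScalarTower.toAlgHom k F P) (AlgHom.id k A) z := by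
    intro z
    induction z using TensorProduct.induction_on with
    | zero => simp
    | tmul a b => rfl
    | add a b ha hb => rw [map_add, map_add, ha, hb]
  -- `((F ⊗[k] A) ⧸ nilradical (F ⊗[k] A)) → R`
  let β : ((F ⊗[k] A) ⧸ nilradical (F ⊗[k] A)) →ₐ[F] R := Ideal.Quotient.liftₐ _ ((Ideal.Quotient.mkₐ F _).comp φ) fun z hz ↦ by
    change Ideal.Quotient.mk _ (φ z) = 0
    rw [Ideal.Quotient.eq_zero_iff_mem, mem_nilradical]
    exact (mem_nilradical.mp hz).map φ
  let ω : P ⊗[F] ((F ⊗[k] A) ⧸ nilradical (F ⊗[k] A)) →ₐ[P] R :=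
    Algebra.TensorProduct.lift (Algebra.ofId P R) β fun _ _ ↦ Commute.all _ _
  -- `R → P ⊗ ((F ⊗[k] A) ⧸ nilradical (F ⊗[k] A))`
  let χ₀ : P ⊗[k] A →ₐ[P] P ⊗[F] ((F ⊗[k] A) ⧸ nilradical (F ⊗[k] A)) :=
    Algebra.TensorProduct.lift (Algebra.ofId P _)
      ((Algebra.TensorProduct.includeRight.restrictScalars k).comp
        (((Ideal.Quotient.mkₐ F _).restrictScalars k).comp Algebra.TensorProduct.includeRight))
      fun x y ↦ @mul_comm (P ⊗[F] ((F ⊗[k] A) ⧸ nilradical (F ⊗[k] A))) _ _ _
  have hχφ : ∀ z, χ₀ (φ z) = (1 : P) ⊗ₜ[F] (Ideal.Quotient.mk _ z : ((F ⊗[k] A) ⧸ nilradical (F ⊗[k] A))) := by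
    intro z
    induction z using TensorProduct.induction_on with
    | zero => simp
    | tmul a b =>
      have e : (Ideal.Quotient.mk _ (a ⊗ₜ[k] b) : ((F ⊗[k] A) ⧸ nilradical (F ⊗[k] A))) =
          a • (Ideal.Quotient.mk _ ((1 : F) ⊗ₜ[k] b) : ((F ⊗[k] A) ⧸ nilradical (F ⊗[k] A))) := by
        rw [Algebra.smul_def, show algebraMap F ((F ⊗[k] A) ⧸ nilradical (F ⊗[k] A)) a = Ideal.Quotient.mk _ (a ⊗ₜ[k] (1 : A)) from rfl,
          ← map_mul, Algebra.TensorProduct.tmul_mul_tmul, mul_one, one_mul]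
      rw [e, ← TensorProduct.smul_tmul]
      rw [show φ (a ⊗ₜ[k] b) = algebraMap F P a ⊗ₜ[k] b from rfl]
      simp only [χ₀]
      refine (Algebra.TensorProduct.lift_tmul ..).trans ?_
      rw [Algebra.smul_def, mul_one]
      simp [Algebra.TensorProduct.algebraMap_apply]
    | add a b ha hb => rw [map_add, map_add, ha, hb, map_add, TensorProduct.tmul_add]
  have hχ : ∀ z ∈ nilradical (P ⊗[k] A), χ₀ z = 0 := by
    rw [← hs]
    intro z hz
    have : Submodule.span (P ⊗[k] A) s ≤ RingHom.ker χ₀.toRingHom := by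
      refine Submodule.span_le.mpr fun w hw ↦ ?_
      obtain ⟨w', rfl⟩ := hsub hw
      have hnil : Algebra.TensorProduct.map (IsScalarTower.toAlgHom k F P) (AlgHom.id k A) w' ∈ nilradical (P ⊗[k] A) := by
        rw [← hs]; exact Submodule.subset_span hw
      have hw' : w' ∈ nilradical (F ⊗[k] A) := by
        rw [mem_nilradical, ← IsNilpotent.map_iff (injective_map_left (S := A) (IsScalarTower.toAlgHom k F P) (IsScalarTower.toAlgHom k F P).injective)]
        exact mem_nilradical.mp hnil
      change χ₀ (Algebra.TensorProduct.map (IsScalarTower.toAlgHom k F P) (AlgHom.id k A) w') = 0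
      rw [← hφ, hχφ, Ideal.Quotient.eq_zero_iff_mem.mpr hw', TensorProduct.tmul_zero]
    exact this hz
  let χ : R →ₐ[P] P ⊗[F] ((F ⊗[k] A) ⧸ nilradical (F ⊗[k] A)) := Ideal.Quotient.liftₐ _ χ₀ hχ
  have hωχ : ∀ z, χ (ω z) = z := by
    intro z
    induction z using TensorProduct.induction_on with
    | zero => simp
    | tmul a b =>
      obtain ⟨b, rfl⟩ := Ideal.Quotient.mk_surjective b
      have e : ω (a ⊗ₜ[F] Ideal.Quotient.mk _ b) =
          algebraMap P R a * Ideal.Quotient.mk _ (φ b) :=
        Algebra.TensorProduct.lift_tmul ..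
      rw [e, map_mul, AlgHom.commutes]
      change algebraMap P (P ⊗[F] ((F ⊗[k] A) ⧸ nilradical (F ⊗[k] A))) a * χ₀ (φ b) = _
      rw [hχφ, Algebra.TensorProduct.algebraMap_apply, Algebra.algebraMap_self, RingHom.id_apply,
        Algebra.TensorProduct.tmul_mul_tmul, mul_one, one_mul]
    | add a b ha hb => rw [map_add, map_add, ha, hb]
  have : IsReduced R := (Ideal.isRadical_iff_quotient_reduced _).mp (Ideal.radical_isRadical _)
  have hred : IsReduced (P ⊗[F] ((F ⊗[k] A) ⧸ nilradical (F ⊗[k] A))) :=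
    isReduced_of_injective ω.toRingHom (Function.LeftInverse.injective hωχ)
  exact isGeometricallyReduced_of_perfect F P hred

lemma exists_purelyInseparable_geomReduced
    (hA : IsNoetherianRing (perfectClosure k (AlgebraicClosure k) ⊗[k] A)) :
    ∃ (k' : Type u) (_ : Field k') (_ : Algebra k k'), FiniteDimensional k k' ∧
      IsPurelyInseparable k k' ∧
      Algebra.IsGeometricallyReduced k' ((k' ⊗[k] A) ⧸ nilradical (k' ⊗[k] A)) := by
  classical
  obtain ⟨s, hs⟩ := hA.noetherian (nilradical (perfectClosure k (AlgebraicClosure k) ⊗[k] A))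
  obtain ⟨F, hF, hsub⟩ := exists_finite_sub (k := k) (S := A)
    (E := perfectClosure k (AlgebraicClosure k)) s s.finite_toSet
  have hPI : IsPurelyInseparable k F :=
    IsPurelyInseparable.tower_bot k F (perfectClosure k (AlgebraicClosure k))
  have : Algebra.IsAlgebraic F (perfectClosure k (AlgebraicClosure k)) :=
    Algebra.IsAlgebraic.tower_top (K := k) _
  refine ⟨F, inferInstance, inferInstance, hF, hPI, ?_⟩
  exact isGeometricallyReduced_of_generators A F (perfectClosure k (AlgebraicClosure k)) _ hs hsub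

variable (P : Type u) [Field P] [Algebra k P]

lemma isNoetherianRing_of_finiteType [Algebra.FiniteType k A] : IsNoetherianRing (P ⊗[k] A) :=
  Algebra.FiniteType.isNoetherianRing P (P ⊗[k] A)

lemma isNoetherianRing_of_essFiniteType [Algebra.EssFiniteType k A] :
    IsNoetherianRing (P ⊗[k] A) :=
  Algebra.EssFiniteType.isNoetherianRing P (P ⊗[k] A)

end Groth.Agent.FBase.PerfectReduced
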