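import Mathlib.Topology.Connected.TotallyDisconnected
import Mathlib.Topology.Connected.Clopen
import Mathlib.Topology.Sober
import Mathlib.Topology.Inseparable
import Mathlib.SetTheory.Cardinal.Basic
import Mathlib.Data.Finite.Card

/-!
Connected and irreducible components along open maps.
-/

universe u

open Topology

namespace Groth.Agent.FBase.Topo

variable {X Y : Type*} [TopologicalSpace X] [TopologicalSpace Y]

/-- If every nonempty clopen subset meets the finite set `F`, then connected components are
clopen and meet `F`. -/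
lemma exists_mem_connectedComponent_of_clopen_meets {F : Set Y} (hF : F.Finite)
    (h : ∀ U : Set Y, IsClopen U → U.Nonempty → (U ∩ F).Nonempty) (y : Y) :
    ∃ z ∈ F, z ∈ connectedComponent y := by
  have key : ∀ U V : Set Y, IsClopen U → IsClopen V → U ∩ F = V ∩ F → U ⊆ V := by
    intro U V hU hV he u hu
    by_contra hn
    obtain ⟨z, ⟨hzU, hzV⟩, hzF⟩ := h _ (hU.inter hV.compl) ⟨u, hu, hn⟩
    exact hzV (he.le ⟨hzU, hzF⟩).1
  have hfin : {U : Set Y | IsClopen U ∧ y ∈ U}.Finite := by
    refine Set.Finite.of_injOn (f := fun U ↦ U ∩ F) (t := F.powerset)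
      (fun U _ ↦ Set.inter_subset_right) ?_ hF.powerset
    exact fun U hU V hV he ↦ (key U V hU.1 hV.1 he).antisymm (key V U hV.1 hU.1 he.symm)
  let C : Set Y := ⋂ U ∈ {U : Set Y | IsClopen U ∧ y ∈ U}, U
  have hC : IsClopen C := hfin.isClopen_biInter fun U hU ↦ hU.1
  have hyC : y ∈ C := by simp [C]
  have hCc : IsPreconnected C := by
    rw [isPreconnected_iff_preconnectedSpace, preconnectedSpace_iff_clopen]
    intro V hV
    have hV' : IsClopen (Subtype.val '' V : Set Y) :=
      ⟨hC.1.isClosedEmbedding_subtypeVal.isClosedMap _ hV.1,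
        hC.2.isOpenEmbedding_subtypeVal.isOpenMap _ hV.2⟩
    by_cases hy : y ∈ (Subtype.val '' V : Set Y)
    · refine Or.inr (Set.eq_univ_iff_forall.mpr fun c ↦ ?_)
      obtain ⟨d, hd, hde⟩ := Set.mem_iInter₂.mp c.2 _ ⟨hV', hy⟩
      exact Subtype.ext hde ▸ hd
    · refine Or.inl (Set.eq_empty_of_forall_notMem fun c hc ↦ ?_)
      exact Set.mem_iInter₂.mp c.2 _ ⟨hV'.compl, hy⟩ ⟨c, hc, rfl⟩
  obtain ⟨z, hzC, hzF⟩ := h C hC ⟨y, hyC⟩
  exact ⟨z, hzF, hCc.subset_connectedComponent hyC hzC⟩

lemma finite_connectedComponents_of_clopen_meets {F : Set Y} (hF : F.Finite)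
    (h : ∀ U : Set Y, IsClopen U → U.Nonempty → (U ∩ F).Nonempty) :
    Finite (ConnectedComponents Y) ∧ Nat.card (ConnectedComponents Y) ≤ Nat.card F := by
  have := hF.to_subtype
  have hs : Function.Surjective fun z : F ↦ ConnectedComponents.mk z.1 := by
    intro c
    obtain ⟨y, rfl⟩ := ConnectedComponents.surjective_coe c
    obtain ⟨z, hz, hzy⟩ := exists_mem_connectedComponent_of_clopen_meets hF h y
    exact ⟨⟨z, hz⟩, ConnectedComponents.coe_eq_coe'.mpr hzy⟩
  exact ⟨Finite.of_surjective _ hs, Nat.card_le_card_of_surjective _ hs⟩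

/-- Along an open closed map to a space with finitely many components, nonempty clopens meet the
fibres over chosen points of the components. -/
lemma clopen_meets_of_isOpenMap_of_isClosedMap {p : Y → X} (ho : IsOpenMap p) (hc : IsClosedMap p)
    {S : Set X} (hS : ∀ x : X, ∃ s ∈ S, s ∈ connectedComponent x) (U : Set Y) (hU : IsClopen U)
    (hne : U.Nonempty) : (U ∩ p ⁻¹' S).Nonempty := by
  obtain ⟨u, hu⟩ := hne
  obtain ⟨s, hs, hsu⟩ := hS (p u)
  have him : IsClopen (p '' U) := ⟨hc _ hU.1, ho _ hU.2⟩
  obtain ⟨v, hv, rfl⟩ := him.connectedComponent_subset ⟨u, hu, rfl⟩ hsu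
  exact ⟨v, hv, hs⟩

/-- Connected fibred open surjections induce bijections on connected components. -/
lemma connectedComponentsMap_bijective {p : Y → X} (hp : Continuous p) (ho : IsOpenMap p)
    (hs : Function.Surjective p) (hf : ∀ x, IsConnected (p ⁻¹' {x})) :
    Function.Bijective hp.connectedComponentsMap :=
  (ho.isQuotientMap hp hs).isCoinducing.connectedComponentsMap_bijective hf

/-- A continuous surjection does not decrease the number of irreducible components. -/
lemma exists_injective_irreducibleComponents [QuasiSober X] {p : Y → X} (hp : Continuous p)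
    (hs : Function.Surjective p) :
    ∃ g : irreducibleComponents X → irreducibleComponents Y, Function.Injective g := by
  have key : ∀ Z : irreducibleComponents X, ∃ W : irreducibleComponents Y,
      closure (p '' W.1) = Z.1 := by
    intro ⟨Z, hZ⟩
    have hZc : IsClosed Z := isClosed_of_mem_irreducibleComponents Z hZ
    obtain ⟨η, hη⟩ : ∃ η, IsGenericPoint η Z := QuasiSober.sober hZ.1 hZc
    obtain ⟨w, hw⟩ := hs η
    have hW : irreducibleComponent w ∈ irreducibleComponents Y :=
      irreducibleComponent_mem_irreducibleComponents w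
    refine ⟨⟨_, hW⟩, ?_⟩
    have hle : Z ⊆ closure (p '' irreducibleComponent w) := by
      rw [← hη.def]
      exact closure_mono (Set.singleton_subset_iff.mpr ⟨w, mem_irreducibleComponent, hw⟩)
    exact (hle.antisymm (hZ.2 (hW.1.image p hp.continuousOn).closure hle)).symm
  choose g hg using key
  exact ⟨g, fun Z Z' h ↦ Subtype.ext (by rw [← hg Z, ← hg Z', h])⟩

lemma mk_irreducibleComponents_le {Y : Type u} {X : Type u} [TopologicalSpace X]
    [TopologicalSpace Y] [QuasiSober X] {p : Y → X} (hp : Continuous p)
    (hs : Function.Surjective p) :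
    Cardinal.mk ↥(irreducibleComponents X) ≤ Cardinal.mk ↥(irreducibleComponents Y) := by
  obtain ⟨g, hg⟩ := exists_injective_irreducibleComponents hp hs
  exact Cardinal.mk_le_of_injective hg

/-- A point which is maximal for generalization is the generic point of a component. -/
lemma closure_singleton_mem_irreducibleComponents [QuasiSober X] {x : X}
    (h : ∀ y, y ⤳ x → x ⤳ y) : closure {x} ∈ irreducibleComponents X := by
  refine ⟨isIrreducible_singleton.closure, fun W hW hle ↦ ?_⟩
  obtain ⟨y, hy⟩ : ∃ y, IsGenericPoint y (closure W) :=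
    QuasiSober.sober hW.closure isClosed_closure
  have hyx : y ⤳ x := hy.specializes (subset_closure (hle (subset_closure rfl)))
  refine subset_closure.trans (hy.def.symm.le.trans ?_)
  exact closure_minimal (Set.singleton_subset_iff.mpr (h y hyx).mem_closure) isClosed_closure

/-- The generic point of a component is maximal for generalization. -/
lemma specializes_of_isGenericPoint_component [QuasiSober X] {Z : Set X} {x y : X}
    (hZ : Z ∈ irreducibleComponents X) (hx : IsGenericPoint x Z) (hy : y ⤳ x) : x ⤳ y := by
  have hle : Z ⊆ closure {y} := hx.def.symm.le.trans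
    (closure_minimal (Set.singleton_subset_iff.mpr hy.mem_closure) isClosed_closure)
  exact hx.specializes (hZ.2 isIrreducible_singleton.closure hle (subset_closure rfl))

end Groth.Agent.FBase.Topo
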