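import Groth.Agent.FBase.SepClosed
import Groth.Agent.FBase.BC2
import Groth.Agent.FBase.PointScheme
import Groth.Agent.FBase.Topology
import Mathlib.FieldTheory.Normal.Closure
import Mathlib.FieldTheory.Galois.Basic
import Mathlib.AlgebraicGeometry.Morphisms.Preimmersion
import Mathlib.AlgebraicGeometry.Morphisms.UniversallyOpen

/-!
Fibres of `X ⊗ K → X` over a point in terms of embeddings of the separable closure of `k` in the
residue field.
-/

universe u

open CategoryTheory Limits AlgebraicGeometry TensorProduct
open Groth.Agent.FBase.BC Groth.Agent.FBase.BC2 Groth.Agent.FBase.PointScheme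
open Groth.Agent.FBase.SepClosed

namespace Groth.Agent.FBase.Components

variable {k : Type u} [Field k] {X : Scheme.{u}} (f : X ⟶ Spec (CommRingCat.of k))

section Point

variable {κ : Type u} [Field κ] [Algebra k κ] (ι : Spec (CommRingCat.of κ) ⟶ X) [IsPreimmersion ι]
  (hι : ι ≫ f = Spec.map (CommRingCat.ofHom (algebraMap k κ)))

/-- The fibre `Spec (κ(x) ⊗ K) → X ⊗ K`. -/
noncomputable abbrev fibreMap (K : Type u) [Field K] [Algebra k K] :
    Spec (CommRingCat.of (κ ⊗[k] K)) ⟶ pullback f (specMap k K) :=
  bcChart f ι K hι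

variable (K : Type u) [Field K] [Algebra k K]

instance : IsPreimmersion (fibreMap f ι hι K) := by
  let sq := pullback.map (Spec.map (CommRingCat.ofHom (algebraMap k κ)))
    (specMap k K) f (specMap k K) (ι) (𝟙 _) (𝟙 _) (by simp [hι]) (by simp)
  have h1 : IsPullback (pullback.fst (Spec.map (CommRingCat.ofHom (algebraMap k κ)))
      (specMap k K)) sq (ι) (pullback.fst f (specMap k K)) := by
    refine IsPullback.of_right (h₁₂ := pullback.snd f (specMap k K)) (v₁₃ := specMap k K)
      (h₂₂ := f) ?_ ?_ (IsPullback.of_hasPullback f (specMap k K)).flip |>.flip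
    · rw [pullback.lift_snd, Category.comp_id, hι]
      exact (IsPullback.of_hasPullback _ _).flip
    · exact (pullback.lift_fst _ _ _)
  have : IsPreimmersion sq :=
    MorphismProperty.of_isPullback (P := @IsPreimmersion) h1 inferInstance
  unfold fibreMap bcChart
  exact inferInstanceAs (IsPreimmersion ((pullbackSpecIso k κ K).inv ≫ sq))

omit [IsPreimmersion ι] in
lemma range_fibreMap :
    Set.range (fibreMap f ι hι K) = pullback.fst f (specMap k K) ⁻¹' Set.range ι := by
  unfold fibreMap bcChart
  simp only [Scheme.Hom.comp_base, TopCat.coe_comp]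
  have hs : Function.Surjective (pullbackSpecIso k κ K).inv :=
    (Scheme.Hom.homeomorph (pullbackSpecIso k κ K).inv).surjective
  rw [Set.range_comp, hs.range_eq, Set.image_univ]
  refine subset_antisymm ?_ fun z hz ↦ ?_
  · refine (Scheme.Pullback.range_map ..).le.trans ?_
    exact Set.inter_subset_left
  · refine (Scheme.Pullback.range_map ..).ge ⟨hz, pullback.snd f (specMap k K) z, ?_⟩
    simp

lemma bcChart_snd {A : Type u} [CommRing A] [Algebra k A] (j : Spec (CommRingCat.of A) ⟶ X)
    (hj : j ≫ f = Spec.map (CommRingCat.ofHom (algebraMap k A))) :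
    bcChart f j K hj ≫ pullback.snd f (specMap k K) =
      Spec.map (CommRingCat.ofHom (Algebra.TensorProduct.includeRight (R := k) (A := A)).toRingHom) := by
  unfold bcChart pullback.map
  rw [Category.assoc, pullback.lift_snd, Category.comp_id]
  exact pullbackSpecIso_inv_snd k A K

variable {K}

omit [IsPreimmersion ι] in
lemma fibreMap_bcMap {L : Type u} [Field L] [Algebra k L] [Algebra K L] [IsScalarTower k K L] :
    fibreMap f ι hι L ≫ bcMap f (K := K) (L := L) =
      Spec.map (CommRingCat.ofHom (Algebra.TensorProduct.map (AlgHom.id k κ)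
        (IsScalarTower.toAlgHom k K L)).toRingHom) ≫ fibreMap f ι hι K := by
  refine pullback.hom_ext ?_ ?_
  · rw [Category.assoc, Category.assoc, bcMap_fst]
    erw [bcChart_fst, bcChart_fst]
    rw [← Category.assoc, ← Spec.map_comp, ← CommRingCat.ofHom_comp]
    congr 3
    ext a
    simp [Algebra.TensorProduct.algebraMap_apply]
  · rw [Category.assoc, Category.assoc, bcMap_snd]
    erw [bcChart_snd, reassoc_of% bcChart_snd f L ι hι]
    simp only [specMap, ← Spec.map_comp, ← CommRingCat.ofHom_comp]
    congr 2

include hι in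
/-- All specializations inside a fibre of an algebraic extension are trivial. -/
lemma eq_of_specializes_of_algebraic [Algebra.IsAlgebraic k K] {a b : ↥(pullback f (specMap k K))}
    (h : a ⤳ b) (ha : pullback.fst f (specMap k K) a ∈ Set.range ι)
    (hb : pullback.fst f (specMap k K) b ∈ Set.range ι) : a = b := by
  obtain ⟨P, rfl⟩ := (range_fibreMap f ι hι K).ge ha
  obtain ⟨Q, rfl⟩ := (range_fibreMap f ι hι K).ge hb
  rw [(fibreMap f ι hι K).isEmbedding.isInducing.specializes_iff] at h
  replace h : P.asIdeal ≤ Q.asIdeal := (PrimeSpectrum.le_iff_specializes P Q).mpr h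
  have := P.isPrime
  refine congrArg _ (PrimeSpectrum.ext (le_antisymm h fun z hz ↦ ?_))
  by_contra hn
  have := Ideal.comap_lt_comap_of_integral_mem_sdiff (R := κ) h ⟨hz, hn⟩
    (Algebra.IsIntegral.isIntegral z)
  rw [(Ideal.eq_bot_or_top _).resolve_right (Ideal.comap_ne_top _ P.isPrime.ne_top),
    (Ideal.eq_bot_or_top _).resolve_right (Ideal.comap_ne_top _ Q.isPrime.ne_top)] at this
  exact lt_irrefl _ this

include hι in
/-- If `K` splits the separable closure of `k` in `κ(x)` the fibre over `x` in `X ⊗ L` maps
injectively to the one in `X ⊗ K`. -/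
lemma injOn_bcMap {L : Type u} [Field L] [Algebra k L] [Algebra K L] [IsScalarTower k K L]
    [Algebra.IsAlgebraic k L]
    (hsplit : ∀ a : separableClosure k κ,
      ((minpoly k a).map (algebraMap k K)).Splits)
    :
    Set.InjOn (bcMap f (K := K) (L := L)) (pullback.fst f (specMap k L) ⁻¹' Set.range ι) := by
  intro a ha b hb hab
  obtain ⟨P, rfl⟩ := (range_fibreMap f ι hι L).ge ha
  obtain ⟨Q, rfl⟩ := (range_fibreMap f ι hι L).ge hb
  rw [← Scheme.Hom.comp_apply, ← Scheme.Hom.comp_apply, fibreMap_bcMap f ι hι,
    Scheme.Hom.comp_apply, Scheme.Hom.comp_apply] at hab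
  have hPQ := congrArg PrimeSpectrum.asIdeal ((fibreMap f ι hι K).isEmbedding.injective hab)
  let m := Algebra.TensorProduct.map (AlgHom.id k κ) (IsScalarTower.toAlgHom k K L)
  change P.asIdeal.comap m = Q.asIdeal.comap m at hPQ
  have := P.isPrime
  have : (P.asIdeal.comap m).IsPrime := Ideal.IsPrime.comap _
  obtain ⟨φ, hφ⟩ := exists_compatible (P.asIdeal.comap m) hsplit
  have hP : Compatible P.asIdeal ((IsScalarTower.toAlgHom k K L).comp φ) := fun c ↦ by
    simpa [m] using hφ c
  have hQ : Compatible Q.asIdeal ((IsScalarTower.toAlgHom k K L).comp φ) := fun c ↦ by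
    have := hφ c
    rw [hPQ, Ideal.mem_comap] at this
    simpa [m] using this
  exact congrArg _ ((existsUnique_prime _).unique hP hQ)

variable (K) in
include hι in
/-- The fibre over `x` in a splitting extension is in bijection with the embeddings. -/
lemma nonempty_fibre_equiv [Algebra.IsAlgebraic k K]
    (hsplit : ∀ a : separableClosure k κ,
      ((minpoly k a).map (algebraMap k K)).Splits)
    :
    Nonempty (↥(pullback.fst f (specMap k K) ⁻¹' Set.range ι) ≃
      (separableClosure k κ →ₐ[k] K)) := by
  choose e he using fun P : PrimeSpectrum (κ ⊗[k] K) ↦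
    exists_compatible P.asIdeal hsplit
  have hbij : Function.Bijective e := by
    refine ⟨fun P Q h ↦ (existsUnique_prime (e P)).unique (he P) (h ▸ he Q), fun φ ↦ ?_⟩
    obtain ⟨P, hP, -⟩ := existsUnique_prime φ
    exact ⟨P, Compatible.eq (he P) hP⟩
  exact ⟨((Equiv.ofInjective _ (fibreMap f ι hι K).isEmbedding.injective).trans
    (Equiv.setCongr (range_fibreMap f ι hι K))).symm.trans (Equiv.ofBijective e hbij)⟩

end Point

/-- A point of `X`, as the image of the spectrum of a field. -/
lemma exists_point_of_residueFieldProp {x : X} {P : ∀ (K : Type u) [Field K] [Algebra k K], Prop}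
    (h : _root_.FBase.ResidueFieldProp f x P) :
    ∃ (κ : Type u) (_ : Field κ) (_ : Algebra k κ) (ι : Spec (CommRingCat.of κ) ⟶ X),
      IsPreimmersion ι ∧ ι ≫ f = Spec.map (CommRingCat.ofHom (algebraMap k κ)) ∧
        Set.range ι = {x} ∧ P κ := by
  obtain ⟨φ, hφ, hP⟩ := h
  exact ⟨X.residueField x, inferInstance, φ.toAlgebra, X.fromSpecResidueField x, inferInstance,
    hφ.symm, X.range_fromSpecResidueField x, hP⟩

/-- Every point is the image of the spectrum of a field. -/
lemma exists_point (x : X) :
    ∃ (κ : Type u) (_ : Field κ) (_ : Algebra k κ) (ι : Spec (CommRingCat.of κ) ⟶ X),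
      IsPreimmersion ι ∧ ι ≫ f = Spec.map (CommRingCat.ofHom (algebraMap k κ)) ∧
        Set.range ι = {x} := by
  obtain ⟨φ, hφ⟩ := Spec.map_surjective (X.fromSpecResidueField x ≫ f)
  exact ⟨X.residueField x, inferInstance, φ.hom.toAlgebra, X.fromSpecResidueField x, inferInstance,
    hφ.symm, X.range_fromSpecResidueField x⟩

/-- The separable closure of `k` in a field is split by any normal field it embeds in. -/
lemma splits_of_algHom {k' K : Type u} [Field k'] [Field K] [Algebra k k'] [Algebra k K]
    [Normal k K] (i : k' →ₐ[k] K) (a : k') : ((minpoly k a).map (algebraMap k K)).Splits := by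
  rw [← minpoly.algHom_eq i i.injective]
  exact Normal.splits' _

/-- Finitely many finite separable extensions embed into one finite Galois extension. -/
lemma exists_galois {ι : Type*} [Finite ι] (k' : ι → Type u) [∀ i, Field (k' i)]
    [∀ i, Algebra k (k' i)] [∀ i, FiniteDimensional k (k' i)]
    [∀ i, Algebra.IsSeparable k (k' i)] :
    ∃ (K : Type u) (_ : Field K) (_ : Algebra k K), FiniteDimensional k K ∧ IsGalois k K ∧
      ∀ i, Nonempty (k' i →ₐ[k] K) := by
  let S := SeparableClosure k
  let j : ∀ i, k' i →ₐ[k] S := fun i ↦ IsSepClosed.lift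
  let E : IntermediateField k S := ⨆ i, (j i).fieldRange
  have : ∀ i, FiniteDimensional k (j i).fieldRange := fun i ↦
    (j i).toLinearMap.finiteDimensional_range
  let N := IntermediateField.normalClosure k E S
  have : Algebra.IsSeparable k N := Algebra.IsSeparable.of_algHom k S N.val
  have : IsGalois k N := ⟨⟩
  refine ⟨N, inferInstance, inferInstance, inferInstance, this, fun i ↦ ⟨?_⟩⟩
  have hle : (j i).fieldRange ≤ N :=
    (le_iSup (fun i ↦ (j i).fieldRange) i).trans E.le_normalClosure
  exact (IntermediateField.inclusion hle).comp (j i).rangeRestrict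

end Groth.Agent.FBase.Components
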