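import Groth.Agent.Omega.ConormalBC
import Groth.Agent.EtStruct.UnibranchGlobal
import Groth.Agent.MultBound.OneDim
import Groth.Agent.SchPoints.Basic
import Groth.Agent.RedSub.Basic
import Groth.Agent.FBase.IrredComp
import Groth.Prelude.Def_FDesc
import Mathlib.RingTheory.LocalRing.Length
import Mathlib.AlgebraicGeometry.Morphisms.Flat

/-!
Multiplicativity of lengths of local rings at maximal points under flat base change.
-/

universe u

open CategoryTheory AlgebraicGeometry IsLocalRing

namespace Groth.Agent.FBase.LenBC

/-- At a maximal point every prime of the local ring is maximal. -/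
lemma nilradical_stalk_eq {X : Scheme.{u}} {x : X} (h : ∀ v : X, v ⤳ x → v = x) :
    nilradical (X.presheaf.stalk x) = maximalIdeal (X.presheaf.stalk x) := by
  refine le_antisymm (le_maximalIdeal fun e ↦ ?_) ?_
  · exact one_ne_zero (IsNilpotent.eq_zero (R := ResidueField (X.presheaf.stalk x))
      ((mem_nilradical.mp ((Ideal.eq_top_iff_one _).mp e)).map (residue _)) |>.symm.trans
        (map_one (residue _))).symm
  · rw [nilradical_eq_sInf]
    refine le_sInf fun p (hp : p.IsPrime) ↦ le_of_eq ?_
    have hz : (⟨p, hp⟩ : Spec (X.presheaf.stalk x)) = closedPoint (X.presheaf.stalk x) := by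
      apply (X.fromSpecStalk x).isEmbedding.injective
      exact (h _ (SchPoints.fromSpecStalk_specializes x _)).trans
        Scheme.fromSpecStalk_closedPoint.symm
    exact (congrArg PrimeSpectrum.asIdeal hz).symm

/-- Lengths multiply along a flat morphism at a maximal point, the fibre being computed on the
base change of the reduction. -/
theorem length_stalk_eq_mul {X X' Z Z' : Scheme.{u}} {i : Z ⟶ X} {i' : Z' ⟶ X'}
    [IsClosedImmersion i] [IsClosedImmersion i'] [IsReduced Z'] {g : X ⟶ X'} [Flat g]
    {gZ : Z ⟶ Z'} (hsq : IsPullback i gZ g i') (hi' : Function.Surjective i') (z : Z)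
    (hmax : ∀ v, v ⤳ g (i z) → v = g (i z)) :
    Module.length (X.presheaf.stalk (i z)) (X.presheaf.stalk (i z)) =
      Module.length (X'.presheaf.stalk (g (i z))) (X'.presheaf.stalk (g (i z))) *
        Module.length (Z.presheaf.stalk z) (Z.presheaf.stalk z) := by
  have w : gZ ≫ i' = i ≫ g := hsq.w.symm
  have hp : i' (gZ z) = g (i z) := congr($w z)
  let s := Omega.StalkSeq.σ w z
  rw [MultBound.length_self_eq_quot_ker (i.stalkMap z).hom (i.stalkMap_surjective z),
    Omega.ConormalBC.ker_stalkMap_eq_map hsq w z,
    EtStruct.ker_stalkMap_eq_nilradical i' hi' (gZ z),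
    nilradical_stalk_eq (fun v hv ↦ (hmax v (hp ▸ hv)).trans hp.symm),
    ← congrArg (fun p ↦ Module.length (X'.presheaf.stalk p) (X'.presheaf.stalk p)) hp]
  have : IsIso (X'.presheaf.stalkSpecializes (Specializes.of_eq (congr($w z)).symm)) :=
    (X'.presheaf.stalkCongr (Inseparable.of_eq congr($w z))).isIso_hom
  have hsf : s.hom.Flat := RingHom.Flat.comp
    (RingHom.Flat.of_bijective (ConcreteCategory.bijective_of_isIso
      (X'.presheaf.stalkSpecializes (Specializes.of_eq (congr($w z)).symm))))
    (Flat.stalkMap g (i z))
  have hsl : IsLocalHom s.hom := ⟨fun a ha ↦ by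
    have h1 : IsUnit (X'.presheaf.stalkSpecializes (Specializes.of_eq (congr($w z)).symm) a) :=
      (g.toLRSHom.prop (i z)).map_nonunit _ ha
    exact (MulEquiv.isUnit_map (asIso (X'.presheaf.stalkSpecializes
      (Specializes.of_eq (congr($w z)).symm))).commRingCatIsoToRingEquiv.toMulEquiv).mp h1⟩
  let := s.hom.toAlgebra
  have : Module.Flat (X'.presheaf.stalk (i' (gZ z))) (X.presheaf.stalk (i z)) := hsf
  have : IsLocalHom (algebraMap (X'.presheaf.stalk (i' (gZ z))) (X.presheaf.stalk (i z))) := hsl
  refine ((TensorProduct.AlgebraTensorModule.rid (X'.presheaf.stalk (i' (gZ z)))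
    (X.presheaf.stalk (i z)) (X.presheaf.stalk (i z))).length_eq).symm.trans ?_
  exact IsLocalRing.length_baseChange _ _ _

variable {k : Type u} [Field k] {X : Scheme.{u}} (f : X ⟶ Spec (CommRingCat.of k))
  (K : Type u) [Field K] [Algebra k K]

/-- The reduction of `X`, base changed to `K`, mapped to the base change. -/
noncomputable abbrev redMap : FBase.bc (X.nilradical.subschemeι ≫ f) K ⟶ FBase.bc f K :=
  Limits.pullback.map (X.nilradical.subschemeι ≫ f) (Spec.map (CommRingCat.ofHom (algebraMap k K)))
    f (Spec.map (CommRingCat.ofHom (algebraMap k K))) X.nilradical.subschemeι (𝟙 _) (𝟙 _)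
    (Category.comp_id _) ((Category.comp_id _).trans (Category.id_comp _).symm)

lemma isPullback_redMap : IsPullback (redMap f K) (FBase.bcπ (X.nilradical.subschemeι ≫ f) K)
    (FBase.bcπ f K) X.nilradical.subschemeι := by
  refine IsPullback.of_right ?_ ?_
    (IsPullback.of_hasPullback f (Spec.map (CommRingCat.ofHom (algebraMap k K)))).flip
  · have e : redMap f K ≫ Limits.pullback.snd f (Spec.map (CommRingCat.ofHom (algebraMap k K))) =
        Limits.pullback.snd _ _ := (Limits.pullback.lift_snd _ _ _).trans (Category.comp_id _)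
    exact (e.symm ▸ (IsPullback.of_hasPullback (X.nilradical.subschemeι ≫ f)
      (Spec.map (CommRingCat.ofHom (algebraMap k K))))).flip
  · exact Limits.pullback.lift_fst _ _ _

lemma surjective_nilradical_subschemeι : Function.Surjective X.nilradical.subschemeι := fun x ↦ by
  have : x ∈ Set.range X.nilradical.subschemeι := by
    rw [Scheme.IdealSheafData.range_subschemeι, Scheme.support_nilradical]
    trivial
  exact this

instance isReduced_nilradical_subscheme : IsReduced X.nilradical.subscheme :=
  Scheme.IdealSheafData.vanishingIdeal_top (X := X) ▸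
    Groth.Agent.RedSub.isReduced_vanishingIdeal _

/-- The length formula at maximal points of a base change. -/
theorem length_bc_eq_mul (z : ↥(FBase.bc (X.nilradical.subschemeι ≫ f) K))
    (hx : ∀ v : ↥(FBase.bc f K), v ⤳ redMap f K z → v = redMap f K z) :
    Module.length ((FBase.bc f K).presheaf.stalk (redMap f K z))
        ((FBase.bc f K).presheaf.stalk (redMap f K z)) =
      Module.length (X.presheaf.stalk (FBase.bcπ f K (redMap f K z)))
          (X.presheaf.stalk (FBase.bcπ f K (redMap f K z))) *
        Module.length ((FBase.bc (X.nilradical.subschemeι ≫ f) K).presheaf.stalk z)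
          ((FBase.bc (X.nilradical.subschemeι ≫ f) K).presheaf.stalk z) := by
  have : Flat (FBase.bcπ f K) :=
    inferInstanceAs (Flat (Limits.pullback.fst f (BC.specMap k K)))
  have : IsClosedImmersion (redMap f K) :=
    MorphismProperty.of_isPullback (P := @IsClosedImmersion) (isPullback_redMap f K).flip
      inferInstance
  refine length_stalk_eq_mul (isPullback_redMap f K) surjective_nilradical_subschemeι z fun v hv ↦ ?_
  exact (hv.antisymm (IrredComp.generization_maximal_map (FBase.bcπ f K)
    (fun w hw ↦ specializes_of_eq (hx w hw).symm) hv)).eq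

end Groth.Agent.FBase.LenBC
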